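import Mathlib
import Cfsg.Agent.H449.Lcs
set_option linter.all false

-- part: H449/GrLie
section
/-!
# The graded Lie ring of a group with an `N`-series

An `N`-series of a group `G` is a descending sequence `G = H₀ = H₁ ≥ H₂ ≥ ⋯` of normal subgroups with
`⁅Hᵢ, Hⱼ⁆ ≤ Hᵢ₊ⱼ`. The product of the quotients `Hᵢ / Hᵢ₊₁` is a Lie ring.
-/

set_option autoImplicit false

namespace Cfsg.Agent.H449

open scoped commutatorElement

variable {G : Type*} [Group G]

/-- An `N`-series. -/
structure NSeries (G : Type*) [Group G] where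
  /-- the terms -/
  H : ℕ → Subgroup G
  anti : Antitone H
  zero : H 0 = ⊤
  one : H 1 = ⊤
  comm : ∀ i j, ⁅H i, H j⁆ ≤ H (i + j)

/-- The lower central series as an `N`-series. -/
def lcsSeries (G : Type*) [Group G] : NSeries G where
  H := fun i => (⊤ : Subgroup G).lowerCentralSeries (i - 1)
  anti := fun i j hij => Subgroup.lowerCentralSeries_antitone ⊤ (Nat.sub_le_sub_right hij 1)
  zero := rfl
  one := rfl
  comm := by
    intro i j
    rcases Nat.eq_zero_or_pos i with rfl | hi
    · rw [zero_add]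
      exact Subgroup.commutator_le_right _ _
    rcases Nat.eq_zero_or_pos j with rfl | hj
    · rw [add_zero]
      exact Subgroup.commutator_le_left _ _
    · have := commutator_lcs_le (⊤ : Subgroup G) (i - 1) (j - 1)
      rwa [show i - 1 + (j - 1) + 1 = i + j - 1 by omega] at this

variable (S : NSeries G)

theorem NSeries.comm_mem {i j k : ℕ} (h : k ≤ i + j) {x y : G} (hx : x ∈ S.H i) (hy : y ∈ S.H j) :
    ⁅x, y⁆ ∈ S.H k :=
  S.anti h (S.comm i j (Subgroup.commutator_mem_commutator hx hy))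

theorem NSeries.conj_mem {k : ℕ} {x : G} (hx : x ∈ S.H k) (g : G) : g * x * g⁻¹ ∈ S.H k := by
  have h1 : ⁅g, x⁆ ∈ S.H k := S.comm_mem (i := 0) (j := k) (by omega)
    (by rw [S.zero]; trivial) hx
  have h2 : g * x * g⁻¹ = ⁅g, x⁆ * x := by rw [commutatorElement_def]; group
  rw [h2]
  exact mul_mem h1 hx

theorem NSeries.normal (k : ℕ) : (S.H k).Normal := ⟨fun _ hx g => S.conj_mem hx g⟩

/-- The quotient `H k / H (k + 1)`, in multiplicative notation. -/
def NSeries.Q (k : ℕ) : Type _ := ↥(S.H k) ⧸ (S.H (k + 1)).subgroupOf (S.H k)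

instance NSeries.qnormal (k : ℕ) : ((S.H (k + 1)).subgroupOf (S.H k)).Normal := by
  have := S.normal (k + 1)
  infer_instance

instance NSeries.qcommGroup (k : ℕ) : CommGroup (S.Q k) :=
  { (inferInstance : Group (↥(S.H k) ⧸ (S.H (k + 1)).subgroupOf (S.H k))) with
    mul_comm := by
      intro a b
      obtain ⟨x, rfl⟩ := QuotientGroup.mk_surjective a
      obtain ⟨y, rfl⟩ := QuotientGroup.mk_surjective b
      change (QuotientGroup.mk (x * y) : ↥(S.H k) ⧸ (S.H (k + 1)).subgroupOf (S.H k)) =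
        QuotientGroup.mk (y * x)
      rw [QuotientGroup.eq, Subgroup.mem_subgroupOf]
      rcases Nat.eq_zero_or_pos k with rfl | hk
      · rw [zero_add, S.one]; trivial
      · have h1 : ⁅(y : G)⁻¹, (x : G)⁻¹⁆ ∈ S.H (k + 1) :=
          S.comm_mem (i := k) (j := k) (by omega) (inv_mem y.2) (inv_mem x.2)
        have h2 : (((x * y)⁻¹ * (y * x) : S.H k) : G) = ⁅(y : G)⁻¹, (x : G)⁻¹⁆ := by
          rw [commutatorElement_def]
          simp only [Subgroup.coe_mul, Subgroup.coe_inv, mul_inv_rev, inv_inv]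
          group
        rw [h2]
        exact h1 }

/-- The quotient `H k / H (k + 1)`, in additive notation. -/
abbrev NSeries.W (k : ℕ) : Type _ := Additive (S.Q k)

open Classical in
/-- The class of `x ∈ H k` in `H k / H (k + 1)`, and `0` if `x ∉ H k`. -/
noncomputable def NSeries.cls (k : ℕ) (x : G) : S.W k :=
  if hx : x ∈ S.H k then Additive.ofMul
    (QuotientGroup.mk (s := (S.H (k + 1)).subgroupOf (S.H k)) ⟨x, hx⟩ : S.Q k) else 0

theorem NSeries.cls_of_mem {k : ℕ} {x : G} (hx : x ∈ S.H k) : S.cls k x = Additive.ofMul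
    (QuotientGroup.mk (s := (S.H (k + 1)).subgroupOf (S.H k)) ⟨x, hx⟩ : S.Q k) := dif_pos hx

theorem NSeries.cls_mul {k : ℕ} {x y : G} (hx : x ∈ S.H k) (hy : y ∈ S.H k) :
    S.cls k (x * y) = S.cls k x + S.cls k y := by
  rw [S.cls_of_mem hx, S.cls_of_mem hy, S.cls_of_mem (mul_mem hx hy)]
  rfl

theorem NSeries.cls_eq_zero {k : ℕ} {x : G} (hx : x ∈ S.H (k + 1)) : S.cls k x = 0 := by
  have hx' : x ∈ S.H k := S.anti (Nat.le_succ k) hx
  rw [S.cls_of_mem hx']
  exact congrArg Additive.ofMul ((QuotientGroup.eq_one_iff _).mpr hx)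

theorem NSeries.mem_of_cls_eq_zero {k : ℕ} {x : G} (hx : x ∈ S.H k) (h : S.cls k x = 0) :
    x ∈ S.H (k + 1) := by
  rw [S.cls_of_mem hx] at h
  have h1 := (QuotientGroup.eq_one_iff (N := (S.H (k + 1)).subgroupOf (S.H k)) (⟨x, hx⟩ : S.H k)).mp
    (Additive.ofMul.injective h)
  exact h1

theorem NSeries.cls_one (k : ℕ) : S.cls k (1 : G) = 0 := S.cls_eq_zero (one_mem _)

theorem NSeries.cls_inv {k : ℕ} {x : G} (hx : x ∈ S.H k) : S.cls k x⁻¹ = - S.cls k x := by
  rw [eq_neg_iff_add_eq_zero, ← S.cls_mul (inv_mem hx) hx, inv_mul_cancel, S.cls_one]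

theorem NSeries.cls_pow {k : ℕ} {x : G} (hx : x ∈ S.H k) (n : ℕ) :
    S.cls k (x ^ n) = n • S.cls k x := by
  induction n with
  | zero => rw [pow_zero, zero_smul, S.cls_one]
  | succ n ih => rw [pow_succ, S.cls_mul (pow_mem hx n) hx, ih, succ_nsmul]

theorem NSeries.cls_conj {k : ℕ} {x : G} (hx : x ∈ S.H k) (g : G) :
    S.cls k (g * x * g⁻¹) = S.cls k x := by
  have h2 : g * x * g⁻¹ = ⁅g, x⁆ * x := by rw [commutatorElement_def]; group
  have h1 : ⁅g, x⁆ ∈ S.H (k + 1) := S.comm_mem (i := 1) (j := k) (by omega)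
    (by rw [S.one]; trivial) hx
  rw [h2, S.cls_mul (S.anti (Nat.le_succ k) h1) hx, S.cls_eq_zero h1, zero_add]

/-- A representative of a class. -/
noncomputable def NSeries.rep {k : ℕ} (u : S.W k) : G :=
  ((QuotientGroup.mk_surjective (Additive.toMul u : S.Q k)).choose : S.H k)

theorem NSeries.rep_mem {k : ℕ} (u : S.W k) : S.rep u ∈ S.H k := SetLike.coe_mem _

theorem NSeries.cls_rep {k : ℕ} (u : S.W k) : S.cls k (S.rep u) = u := by
  rw [S.cls_of_mem (S.rep_mem u)]
  exact congrArg Additive.ofMul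
    (QuotientGroup.mk_surjective (Additive.toMul u : S.Q k)).choose_spec

theorem NSeries.cls_eq_iff {k : ℕ} {x y : G} (hx : x ∈ S.H k) (hy : y ∈ S.H k) :
    S.cls k x = S.cls k y ↔ x * y⁻¹ ∈ S.H (k + 1) := by
  constructor
  · intro h
    apply S.mem_of_cls_eq_zero (mul_mem hx (inv_mem hy))
    rw [S.cls_mul hx (inv_mem hy), S.cls_inv hy, h, add_neg_cancel]
  · intro h
    have h1 := S.cls_eq_zero h
    rw [S.cls_mul hx (inv_mem hy), S.cls_inv hy, add_neg_eq_zero] at h1
    exact h1

theorem NSeries.cls_comm_mul_left {i j : ℕ} {x x' y : G} (hx : x ∈ S.H i) (hx' : x' ∈ S.H i)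
    (hy : y ∈ S.H j) : S.cls (i + j) ⁅x * x', y⁆ = S.cls (i + j) ⁅x, y⁆ + S.cls (i + j) ⁅x', y⁆ := by
  have h1 : ⁅x * x', y⁆ = (x * ⁅x', y⁆ * x⁻¹) * ⁅x, y⁆ := by
    simp only [commutatorElement_def]; group
  have h2 : ⁅x', y⁆ ∈ S.H (i + j) := S.comm_mem le_rfl hx' hy
  rw [h1, S.cls_mul (S.conj_mem h2 x) (S.comm_mem le_rfl hx hy), S.cls_conj h2]
  exact add_comm _ _

theorem NSeries.cls_comm_mul_right {i j : ℕ} {x y y' : G} (hx : x ∈ S.H i) (hy : y ∈ S.H j)
    (hy' : y' ∈ S.H j) : S.cls (i + j) ⁅x, y * y'⁆ = S.cls (i + j) ⁅x, y⁆ + S.cls (i + j) ⁅x, y'⁆ := by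
  have h1 : ⁅x, y * y'⁆ = ⁅x, y⁆ * (y * ⁅x, y'⁆ * y⁻¹) := by
    simp only [commutatorElement_def]; group
  have h2 : ⁅x, y'⁆ ∈ S.H (i + j) := S.comm_mem le_rfl hx hy'
  rw [h1, S.cls_mul (S.comm_mem le_rfl hx hy) (S.conj_mem h2 y), S.cls_conj h2]

theorem NSeries.cls_comm_congr {i j : ℕ} {x x' y y' : G} (hx : x ∈ S.H i) (hx' : x' ∈ S.H i)
    (hy : y ∈ S.H j) (hy' : y' ∈ S.H j) (h : S.cls i x = S.cls i x') (h' : S.cls j y = S.cls j y') :
    S.cls (i + j) ⁅x, y⁆ = S.cls (i + j) ⁅x', y'⁆ := by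
  rw [S.cls_eq_iff hx hx'] at h
  rw [S.cls_eq_iff hy hy'] at h'
  have hxx : x * x'⁻¹ ∈ S.H i := mul_mem hx (inv_mem hx')
  have hyy : y * y'⁻¹ ∈ S.H j := mul_mem hy (inv_mem hy')
  have e1 : S.cls (i + j) ⁅x, y⁆ = S.cls (i + j) ⁅x', y⁆ := by
    conv_lhs => rw [show x = (x * x'⁻¹) * x' by group]
    rw [S.cls_comm_mul_left hxx hx' hy, S.cls_eq_zero (S.comm_mem (by omega) h hy), zero_add]
  have e2 : S.cls (i + j) ⁅x', y⁆ = S.cls (i + j) ⁅x', y'⁆ := by
    conv_lhs => rw [show y = (y * y'⁻¹) * y' by group]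
    rw [S.cls_comm_mul_right hx' hyy hy', S.cls_eq_zero (S.comm_mem (by omega) hx' h'), zero_add]
  rw [e1, e2]

/-- The bracket `W i × W j → W k`; meaningful if `i + j = k`. -/
noncomputable def NSeries.bk (k : ℕ) {i j : ℕ} (u : S.W i) (v : S.W j) : S.W k :=
  S.cls k ⁅S.rep u, S.rep v⁆

theorem NSeries.bk_cls {i j k : ℕ} (h : i + j = k) {x y : G} (hx : x ∈ S.H i) (hy : y ∈ S.H j) :
    S.bk k (S.cls i x) (S.cls j y) = S.cls k ⁅x, y⁆ := by
  subst h
  exact S.cls_comm_congr (S.rep_mem _) hx (S.rep_mem _) hy (S.cls_rep _) (S.cls_rep _)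

theorem NSeries.bk_add_left {i j k : ℕ} (h : i + j = k) (u u' : S.W i) (v : S.W j) :
    S.bk k (u + u') v = S.bk k u v + S.bk k u' v := by
  subst h
  rw [← S.cls_rep u, ← S.cls_rep u', ← S.cls_rep v, ← S.cls_mul (S.rep_mem u) (S.rep_mem u'),
    S.bk_cls rfl (mul_mem (S.rep_mem u) (S.rep_mem u')) (S.rep_mem v),
    S.bk_cls rfl (S.rep_mem u) (S.rep_mem v), S.bk_cls rfl (S.rep_mem u') (S.rep_mem v)]
  exact S.cls_comm_mul_left (S.rep_mem u) (S.rep_mem u') (S.rep_mem v)

theorem NSeries.bk_add_right {i j k : ℕ} (h : i + j = k) (u : S.W i) (v v' : S.W j) :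
    S.bk k u (v + v') = S.bk k u v + S.bk k u v' := by
  subst h
  rw [← S.cls_rep u, ← S.cls_rep v, ← S.cls_rep v', ← S.cls_mul (S.rep_mem v) (S.rep_mem v'),
    S.bk_cls rfl (S.rep_mem u) (mul_mem (S.rep_mem v) (S.rep_mem v')),
    S.bk_cls rfl (S.rep_mem u) (S.rep_mem v), S.bk_cls rfl (S.rep_mem u) (S.rep_mem v')]
  exact S.cls_comm_mul_right (S.rep_mem u) (S.rep_mem v) (S.rep_mem v')

theorem NSeries.bk_zero_left {i j k : ℕ} (h : i + j = k) (v : S.W j) :
    S.bk k (0 : S.W i) v = 0 := by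
  have := S.bk_add_left h (0 : S.W i) 0 v
  rw [add_zero] at this
  exact left_eq_add.mp this

theorem NSeries.bk_zero_right {i j k : ℕ} (h : i + j = k) (u : S.W i) :
    S.bk k u (0 : S.W j) = 0 := by
  have := S.bk_add_right h u (0 : S.W j) 0
  rw [add_zero] at this
  exact left_eq_add.mp this

theorem NSeries.bk_neg_left {i j k : ℕ} (h : i + j = k) (u : S.W i) (v : S.W j) :
    S.bk k (-u) v = - S.bk k u v := by
  rw [eq_neg_iff_add_eq_zero, ← S.bk_add_left h, neg_add_cancel, S.bk_zero_left h]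

theorem NSeries.bk_neg_right {i j k : ℕ} (h : i + j = k) (u : S.W i) (v : S.W j) :
    S.bk k u (-v) = - S.bk k u v := by
  rw [eq_neg_iff_add_eq_zero, ← S.bk_add_right h, neg_add_cancel, S.bk_zero_right h]

theorem NSeries.bk_self {i k : ℕ} (h : i + i = k) (u : S.W i) : S.bk k u u = 0 := by
  subst h
  rw [NSeries.bk, commutatorElement_self, S.cls_one]

theorem NSeries.bk_skew {i j k : ℕ} (h : i + j = k) (u : S.W i) (v : S.W j) :
    S.bk k u v = - S.bk k v u := by
  rw [NSeries.bk, NSeries.bk, ← commutatorElement_inv,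
    S.cls_inv (S.comm_mem (by omega) (S.rep_mem v) (S.rep_mem u))]

/-- The Jacobi identity. -/
theorem NSeries.bk_jacobi {i j l : ℕ} (u : S.W i) (v : S.W j) (w : S.W l) {ij jl il k : ℕ}
    (hij : i + j = ij) (hjl : j + l = jl) (hil : i + l = il) (hk : i + j + l = k) :
    S.bk k u (S.bk jl v w) = S.bk k (S.bk ij u v) w + S.bk k v (S.bk il u w) := by
  subst hij hjl hil
  have hu := S.rep_mem u
  have hv := S.rep_mem v
  have hw := S.rep_mem w
  rw [← S.cls_rep u, ← S.cls_rep v, ← S.cls_rep w]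
  generalize S.rep u = x at *
  generalize S.rep v = y at *
  generalize S.rep w = z at *
  have e : ⁅x, ⁅y, z⁆⁆ =
      y * ((x * ⁅z, ⁅x⁻¹, y⁻¹⁆⁆⁻¹ * x⁻¹) * (z * ⁅y⁻¹, ⁅z⁻¹, x⁆⁆⁻¹ * z⁻¹)) * y⁻¹ := by
    simp only [commutatorElement_def]; group
  have m1 : ⁅x⁻¹, y⁻¹⁆ ∈ S.H (i + j) := S.comm_mem le_rfl (inv_mem hu) (inv_mem hv)
  have m2 : ⁅z⁻¹, x⁆ ∈ S.H (i + l) := S.comm_mem (by omega) (inv_mem hw) hu
  have m3 : ⁅z, ⁅x⁻¹, y⁻¹⁆⁆ ∈ S.H k := S.comm_mem (by omega) hw m1
  have m4 : ⁅y⁻¹, ⁅z⁻¹, x⁆⁆ ∈ S.H k := S.comm_mem (by omega) (inv_mem hv) m2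
  have m5 : ⁅y, z⁆ ∈ S.H (j + l) := S.comm_mem le_rfl hv hw
  have c1 : S.cls k ⁅z, ⁅x⁻¹, y⁻¹⁆⁆ = - S.bk k (S.bk (i + j) (S.cls i x) (S.cls j y)) (S.cls l z) := by
    rw [← S.bk_cls (i := l) (j := i + j) (by omega) hw m1,
      ← S.bk_cls (i := i) (j := j) rfl (inv_mem hu) (inv_mem hv), S.cls_inv hu, S.cls_inv hv,
      S.bk_neg_left rfl, S.bk_neg_right rfl, neg_neg, S.bk_skew (by omega)]
  have c2 : S.cls k ⁅y⁻¹, ⁅z⁻¹, x⁆⁆ = - S.bk k (S.cls j y) (S.bk (i + l) (S.cls i x) (S.cls l z)) := by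
    rw [← S.bk_cls (i := j) (j := i + l) (by omega) (inv_mem hv) m2,
      ← S.bk_cls (i := l) (j := i) (by omega) (inv_mem hw) hu, S.cls_inv hv, S.cls_inv hw,
      S.bk_neg_left (by omega), S.bk_neg_left (by omega), S.bk_skew (i := l) (j := i) (by omega),
      neg_neg]
  rw [S.bk_cls rfl hv hw, S.bk_cls (i := i) (j := j + l) (by omega) hu m5, e,
    S.cls_conj (mul_mem (S.conj_mem (inv_mem m3) _) (S.conj_mem (inv_mem m4) _)),
    S.cls_mul (S.conj_mem (inv_mem m3) _) (S.conj_mem (inv_mem m4) _),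
    S.cls_conj (inv_mem m3), S.cls_conj (inv_mem m4), S.cls_inv m3, S.cls_inv m4, c1, c2,
    neg_neg, neg_neg]

/-- The graded Lie ring `∏ₖ H k / H (k + 1)`. -/
def GrLie (S : NSeries G) : Type _ := ∀ k, S.W k

noncomputable instance GrLie.addCommGroup : AddCommGroup (GrLie S) :=
  inferInstanceAs (AddCommGroup (∀ k, S.W k))

theorem GrLie.add_apply (f g : GrLie S) (k : ℕ) : (f + g) k = f k + g k := rfl

theorem GrLie.zero_apply (k : ℕ) : (0 : GrLie S) k = 0 := rfl

@[ext]
theorem GrLie.ext {f g : GrLie S} (h : ∀ k, f k = g k) : f = g := funext h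

noncomputable instance GrLie.bracket : Bracket (GrLie S) (GrLie S) :=
  ⟨fun f g k => ∑ ij ∈ Finset.HasAntidiagonal.antidiagonal k, S.bk k (f ij.1) (g ij.2)⟩

theorem GrLie.lie_apply (f g : GrLie S) (k : ℕ) :
    ⁅f, g⁆ k = ∑ ij ∈ Finset.HasAntidiagonal.antidiagonal k, S.bk k (f ij.1) (g ij.2) := rfl

theorem NSeries.bk_sum_right {ι : Type*} (s : Finset ι) {i j k : ℕ} (h : i + j = k) (u : S.W i)
    (v : ι → S.W j) : S.bk k u (∑ x ∈ s, v x) = ∑ x ∈ s, S.bk k u (v x) := by
  classical
  induction s using Finset.induction_on with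
  | empty => rw [Finset.sum_empty, Finset.sum_empty, S.bk_zero_right h]
  | insert a s ha ih => rw [Finset.sum_insert ha, Finset.sum_insert ha, S.bk_add_right h, ih]

theorem NSeries.bk_sum_left {ι : Type*} (s : Finset ι) {i j k : ℕ} (h : i + j = k) (u : ι → S.W i)
    (v : S.W j) : S.bk k (∑ x ∈ s, u x) v = ∑ x ∈ s, S.bk k (u x) v := by
  classical
  induction s using Finset.induction_on with
  | empty => rw [Finset.sum_empty, Finset.sum_empty, S.bk_zero_left h]
  | insert a s ha ih => rw [Finset.sum_insert ha, Finset.sum_insert ha, S.bk_add_left h, ih]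

noncomputable instance GrLie.lieRing : LieRing (GrLie S) where
  add_lie f g h := by
    refine GrLie.ext S fun k => ?_
    rw [GrLie.add_apply, GrLie.lie_apply, GrLie.lie_apply, GrLie.lie_apply,
      ← Finset.sum_add_distrib]
    apply Finset.sum_congr rfl
    intro ij hij
    exact S.bk_add_left (Finset.HasAntidiagonal.mem_antidiagonal.mp hij) _ _ _
  lie_add f g h := by
    refine GrLie.ext S fun k => ?_
    rw [GrLie.add_apply, GrLie.lie_apply, GrLie.lie_apply, GrLie.lie_apply,
      ← Finset.sum_add_distrib]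
    apply Finset.sum_congr rfl
    intro ij hij
    exact S.bk_add_right (Finset.HasAntidiagonal.mem_antidiagonal.mp hij) _ _ _
  lie_self f := by
    refine GrLie.ext S fun k => ?_
    rw [GrLie.lie_apply, GrLie.zero_apply]
    apply Finset.sum_involution (fun ij _ => (ij.2, ij.1))
    · intro ij hij
      have h1 := Finset.HasAntidiagonal.mem_antidiagonal.mp hij
      rw [S.bk_skew h1, neg_add_cancel]
    · intro ij hij hne heq
      apply hne
      obtain ⟨i, j⟩ := ij
      have h1 := Finset.HasAntidiagonal.mem_antidiagonal.mp hij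
      have h2 : j = i := congrArg Prod.fst heq
      subst h2
      exact S.bk_self h1 _
    · intro ij hij
      rw [Finset.HasAntidiagonal.mem_antidiagonal] at hij ⊢
      rw [add_comm]
      exact hij
    · intro ij _
      rfl
  leibniz_lie f g h := by
    refine GrLie.ext S fun k => ?_
    rw [GrLie.add_apply, GrLie.lie_apply, GrLie.lie_apply, GrLie.lie_apply]
    have e1 : ∑ ij ∈ Finset.HasAntidiagonal.antidiagonal k, S.bk k (f ij.1) (⁅g, h⁆ ij.2) =
        ∑ ij ∈ Finset.HasAntidiagonal.antidiagonal k, ∑ jl ∈ Finset.HasAntidiagonal.antidiagonal ij.2,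
          S.bk k (f ij.1) (S.bk ij.2 (g jl.1) (h jl.2)) := by
      apply Finset.sum_congr rfl
      intro ij hij
      rw [GrLie.lie_apply, S.bk_sum_right _ (Finset.HasAntidiagonal.mem_antidiagonal.mp hij)]
    have e2 : ∑ ij ∈ Finset.HasAntidiagonal.antidiagonal k, S.bk k (⁅f, g⁆ ij.1) (h ij.2) =
        ∑ ij ∈ Finset.HasAntidiagonal.antidiagonal k, ∑ jl ∈ Finset.HasAntidiagonal.antidiagonal ij.1,
          S.bk k (S.bk ij.1 (f jl.1) (g jl.2)) (h ij.2) := by
      apply Finset.sum_congr rfl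
      intro ij hij
      rw [GrLie.lie_apply, S.bk_sum_left _ (Finset.HasAntidiagonal.mem_antidiagonal.mp hij)]
    have e3 : ∑ ij ∈ Finset.HasAntidiagonal.antidiagonal k, S.bk k (g ij.1) (⁅f, h⁆ ij.2) =
        ∑ ij ∈ Finset.HasAntidiagonal.antidiagonal k, ∑ jl ∈ Finset.HasAntidiagonal.antidiagonal ij.2,
          S.bk k (g ij.1) (S.bk ij.2 (f jl.1) (h jl.2)) := by
      apply Finset.sum_congr rfl
      intro ij hij
      rw [GrLie.lie_apply, S.bk_sum_right _ (Finset.HasAntidiagonal.mem_antidiagonal.mp hij)]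
    rw [e1, e2, e3, Finset.sum_sigma', Finset.sum_sigma', Finset.sum_sigma']
    have e4 : ∑ x ∈ (Finset.HasAntidiagonal.antidiagonal k).sigma fun ij => Finset.HasAntidiagonal.antidiagonal ij.1,
          S.bk k (S.bk x.1.1 (f x.2.1) (g x.2.2)) (h x.1.2) =
        ∑ x ∈ (Finset.HasAntidiagonal.antidiagonal k).sigma fun ij => Finset.HasAntidiagonal.antidiagonal ij.2,
          S.bk k (S.bk (x.1.1 + x.2.1) (f x.1.1) (g x.2.1)) (h x.2.2) := by
      refine Finset.sum_nbij' (fun x => ⟨(x.2.1, x.2.2 + x.1.2), (x.2.2, x.1.2)⟩)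
        (fun x => ⟨(x.1.1 + x.2.1, x.2.2), (x.1.1, x.2.1)⟩) ?_ ?_ ?_ ?_ ?_
      · rintro ⟨⟨a, b⟩, ⟨c, d⟩⟩ hx
        obtain ⟨hx1, hx2⟩ := Finset.mem_sigma.mp hx
        rw [Finset.HasAntidiagonal.mem_antidiagonal] at hx1 hx2
        refine Finset.mem_sigma.mpr ⟨?_, ?_⟩ <;>
          rw [Finset.HasAntidiagonal.mem_antidiagonal] <;> dsimp only at hx1 hx2 ⊢ <;> omega
      · rintro ⟨⟨a, b⟩, ⟨c, d⟩⟩ hx
        obtain ⟨hx1, hx2⟩ := Finset.mem_sigma.mp hx
        rw [Finset.HasAntidiagonal.mem_antidiagonal] at hx1 hx2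
        refine Finset.mem_sigma.mpr ⟨?_, ?_⟩ <;>
          rw [Finset.HasAntidiagonal.mem_antidiagonal] <;> dsimp only at hx1 hx2 ⊢ <;> omega
      · rintro ⟨⟨a, b⟩, ⟨c, d⟩⟩ hx
        simp only [Finset.mem_sigma, Finset.HasAntidiagonal.mem_antidiagonal] at hx
        obtain ⟨hx1, hx2⟩ := hx
        subst hx2
        rfl
      · rintro ⟨⟨a, b⟩, ⟨c, d⟩⟩ hx
        simp only [Finset.mem_sigma, Finset.HasAntidiagonal.mem_antidiagonal] at hx
        obtain ⟨hx1, hx2⟩ := hx
        subst hx2
        rfl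
      · rintro ⟨⟨a, b⟩, ⟨c, d⟩⟩ hx
        simp only [Finset.mem_sigma, Finset.HasAntidiagonal.mem_antidiagonal] at hx
        obtain ⟨hx1, hx2⟩ := hx
        subst hx2
        rfl
    have e5 : ∑ x ∈ (Finset.HasAntidiagonal.antidiagonal k).sigma fun ij => Finset.HasAntidiagonal.antidiagonal ij.2,
          S.bk k (g x.1.1) (S.bk x.1.2 (f x.2.1) (h x.2.2)) =
        ∑ x ∈ (Finset.HasAntidiagonal.antidiagonal k).sigma fun ij => Finset.HasAntidiagonal.antidiagonal ij.2,
          S.bk k (g x.2.1) (S.bk (x.1.1 + x.2.2) (f x.1.1) (h x.2.2)) := by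
      refine Finset.sum_nbij' (fun x => ⟨(x.2.1, x.1.1 + x.2.2), (x.1.1, x.2.2)⟩)
        (fun x => ⟨(x.2.1, x.1.1 + x.2.2), (x.1.1, x.2.2)⟩) ?_ ?_ ?_ ?_ ?_
      · rintro ⟨⟨a, b⟩, ⟨c, d⟩⟩ hx
        obtain ⟨hx1, hx2⟩ := Finset.mem_sigma.mp hx
        rw [Finset.HasAntidiagonal.mem_antidiagonal] at hx1 hx2
        refine Finset.mem_sigma.mpr ⟨?_, ?_⟩ <;>
          rw [Finset.HasAntidiagonal.mem_antidiagonal] <;> dsimp only at hx1 hx2 ⊢ <;> omega
      · rintro ⟨⟨a, b⟩, ⟨c, d⟩⟩ hx
        obtain ⟨hx1, hx2⟩ := Finset.mem_sigma.mp hx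
        rw [Finset.HasAntidiagonal.mem_antidiagonal] at hx1 hx2
        refine Finset.mem_sigma.mpr ⟨?_, ?_⟩ <;>
          rw [Finset.HasAntidiagonal.mem_antidiagonal] <;> dsimp only at hx1 hx2 ⊢ <;> omega
      · rintro ⟨⟨a, b⟩, ⟨c, d⟩⟩ hx
        simp only [Finset.mem_sigma, Finset.HasAntidiagonal.mem_antidiagonal] at hx
        obtain ⟨hx1, hx2⟩ := hx
        subst hx2
        rfl
      · rintro ⟨⟨a, b⟩, ⟨c, d⟩⟩ hx
        simp only [Finset.mem_sigma, Finset.HasAntidiagonal.mem_antidiagonal] at hx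
        obtain ⟨hx1, hx2⟩ := hx
        subst hx2
        rfl
      · rintro ⟨⟨a, b⟩, ⟨c, d⟩⟩ hx
        simp only [Finset.mem_sigma, Finset.HasAntidiagonal.mem_antidiagonal] at hx
        obtain ⟨hx1, hx2⟩ := hx
        subst hx2
        rfl
    rw [e4, e5, ← Finset.sum_add_distrib]
    apply Finset.sum_congr rfl
    rintro ⟨⟨a, b⟩, ⟨c, d⟩⟩ hx
    obtain ⟨hx1, hx2⟩ := Finset.mem_sigma.mp hx
    rw [Finset.HasAntidiagonal.mem_antidiagonal] at hx1 hx2
    dsimp only at hx1 hx2
    exact S.bk_jacobi _ _ _ rfl hx2 rfl (by dsimp only; omega)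

/-- The homogeneous element with component `w` in degree `k`. -/
noncomputable def GrLie.single (k : ℕ) (w : S.W k) : GrLie S := Pi.single k w

theorem GrLie.single_same (k : ℕ) (w : S.W k) : GrLie.single S k w k = w := Pi.single_eq_same k w

theorem GrLie.single_of_ne {k l : ℕ} (h : l ≠ k) (w : S.W k) : GrLie.single S k w l = 0 :=
  Pi.single_eq_of_ne h w

theorem GrLie.single_add (k : ℕ) (w w' : S.W k) :
    GrLie.single S k (w + w') = GrLie.single S k w + GrLie.single S k w' :=
  Pi.single_add k w w'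

theorem GrLie.single_zero (k : ℕ) : GrLie.single S k (0 : S.W k) = 0 := Pi.single_zero k

theorem GrLie.single_neg (k : ℕ) (w : S.W k) : GrLie.single S k (-w) = - GrLie.single S k w :=
  Pi.single_neg k w

theorem GrLie.lie_single {i j k : ℕ} (h : i + j = k) (u : S.W i) (v : S.W j) :
    ⁅GrLie.single S i u, GrLie.single S j v⁆ = GrLie.single S k (S.bk k u v) := by
  refine GrLie.ext S fun m => ?_
  rw [GrLie.lie_apply]
  by_cases hm : m = k
  · subst hm
    rw [GrLie.single_same, Finset.sum_eq_single (i, j)]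
    · rw [GrLie.single_same, GrLie.single_same]
    · rintro ⟨a, b⟩ hab hne
      rw [Finset.HasAntidiagonal.mem_antidiagonal] at hab
      by_cases ha : a = i
      · have hb : b ≠ j := by
          rintro rfl; exact hne (by rw [ha])
        rw [GrLie.single_of_ne S hb, S.bk_zero_right hab]
      · rw [GrLie.single_of_ne S ha, S.bk_zero_left hab]
    · intro hno
      exact absurd (Finset.HasAntidiagonal.mem_antidiagonal.mpr h) hno
  · rw [GrLie.single_of_ne S hm]
    apply Finset.sum_eq_zero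
    rintro ⟨a, b⟩ hab
    rw [Finset.HasAntidiagonal.mem_antidiagonal] at hab
    by_cases ha : a = i
    · have hb : b ≠ j := by
        rintro rfl; exact hm (by omega)
      rw [GrLie.single_of_ne S hb, S.bk_zero_right hab]
    · rw [GrLie.single_of_ne S ha, S.bk_zero_left hab]

end Cfsg.Agent.H449
end

-- part: H449/Kreknin
section
/-!
# Lie rings graded by `ℤ/n` with trivial zero component: Kreknin's theorem and the
Kreknin–Kostrikin class bound

A family `F : ZMod n → AddSubgroup L` of additive subgroups of a Lie ring `L`; nothing is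
required of the sum of the `F i`.
-/

set_option autoImplicit false

namespace Cfsg.Agent.H449

variable {L : Type*} [LieRing L] {n : ℕ}

/-- The bracket of two families. -/
def fbr (F G : ZMod n → AddSubgroup L) : ZMod n → AddSubgroup L := fun i =>
  AddSubgroup.closure {z | ∃ a b : ZMod n, a + b = i ∧ ∃ x ∈ F a, ∃ y ∈ G b, ⁅x, y⁆ = z}

theorem lie_mem_fbr {F G : ZMod n → AddSubgroup L} {a b : ZMod n} {x y : L} (hx : x ∈ F a)
    (hy : y ∈ G b) : ⁅x, y⁆ ∈ fbr F G (a + b) :=
  AddSubgroup.subset_closure ⟨a, b, rfl, x, hx, y, hy, rfl⟩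

theorem lie_mem_fbr' {F G : ZMod n → AddSubgroup L} {a b i : ZMod n} (h : a + b = i) {x y : L}
    (hx : x ∈ F a) (hy : y ∈ G b) : ⁅x, y⁆ ∈ fbr F G i := h ▸ lie_mem_fbr hx hy

theorem fbr_le {F G H : ZMod n → AddSubgroup L}
    (h : ∀ a b : ZMod n, ∀ x ∈ F a, ∀ y ∈ G b, ⁅x, y⁆ ∈ H (a + b)) : fbr F G ≤ H := by
  intro i
  apply (AddSubgroup.closure_le _).mpr
  rintro _ ⟨a, b, rfl, x, hx, y, hy, rfl⟩
  exact h a b x hx y hy

theorem fbr_mono {F F' G G' : ZMod n → AddSubgroup L} (hF : F ≤ F') (hG : G ≤ G') :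
    fbr F G ≤ fbr F' G' :=
  fbr_le fun _ _ _ hx _ hy => lie_mem_fbr (hF _ hx) (hG _ hy)

theorem fbr_comm_le (F G : ZMod n → AddSubgroup L) : fbr F G ≤ fbr G F :=
  fbr_le fun a b x hx y hy => by
    rw [← lie_skew]
    exact neg_mem (lie_mem_fbr' (add_comm b a) hy hx)

theorem fbr_comm (F G : ZMod n → AddSubgroup L) : fbr F G = fbr G F :=
  le_antisymm (fbr_comm_le F G) (fbr_comm_le G F)

/-- The derived series of a family. -/
def fder (F : ZMod n → AddSubgroup L) : ℕ → ZMod n → AddSubgroup L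
  | 0 => F
  | k + 1 => fbr (fder F k) (fder F k)

/-- The lower central series of a family. -/
def flcs (F : ZMod n → AddSubgroup L) : ℕ → ZMod n → AddSubgroup L
  | 0 => F
  | k + 1 => fbr (flcs F k) F

theorem fder_mono {F G : ZMod n → AddSubgroup L} (h : F ≤ G) (k : ℕ) : fder F k ≤ fder G k := by
  induction k with
  | zero => exact h
  | succ k ih => exact fbr_mono ih ih

theorem fder_add (F : ZMod n → AddSubgroup L) (a b : ℕ) : fder F (a + b) = fder (fder F a) b := by
  induction b with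
  | zero => rfl
  | succ b ih =>
    change fbr (fder F (a + b)) (fder F (a + b)) = fbr (fder (fder F a) b) (fder (fder F a) b)
    rw [ih]

/-- The family generated by `F`. -/
def fgen (F : ZMod n → AddSubgroup L) : ZMod n → AddSubgroup L :=
  sInf {H | F ≤ H ∧ fbr H H ≤ H}

theorem le_fgen (F : ZMod n → AddSubgroup L) : F ≤ fgen F :=
  le_sInf fun _ hH => hH.1

theorem fgen_le {F H : ZMod n → AddSubgroup L} (h : F ≤ H) (h' : fbr H H ≤ H) : fgen F ≤ H :=
  sInf_le ⟨h, h'⟩

theorem fbr_fgen_le (F : ZMod n → AddSubgroup L) : fbr (fgen F) (fgen F) ≤ fgen F :=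
  le_sInf fun _ hH => (fbr_mono (sInf_le hH) (sInf_le hH)).trans hH.2

theorem fbr_fgen_le_fbr (F : ZMod n → AddSubgroup L) :
    fbr (fgen F) (fgen F) ≤ fbr (fgen F) F := by
  -- the family of those `y` with `[fgen F, y] ≤ [fgen F, F]`
  let H : ZMod n → AddSubgroup L := fun b =>
    { carrier := {y | y ∈ fgen F b ∧ ∀ a : ZMod n, ∀ x ∈ fgen F a, ⁅x, y⁆ ∈ fbr (fgen F) F (a + b)}
      add_mem' := by
        rintro y y' ⟨h1, h2⟩ ⟨h3, h4⟩
        refine ⟨add_mem h1 h3, fun a x hx => ?_⟩
        rw [lie_add]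
        exact add_mem (h2 a x hx) (h4 a x hx)
      zero_mem' := ⟨zero_mem _, fun a x _ => by rw [lie_zero]; exact zero_mem _⟩
      neg_mem' := by
        rintro y ⟨h1, h2⟩
        refine ⟨neg_mem h1, fun a x hx => ?_⟩
        rw [lie_neg]
        exact neg_mem (h2 a x hx) }
  have hH : fgen F ≤ H := by
    apply fgen_le
    · intro b y hy
      exact ⟨le_fgen F b hy, fun a x hx => lie_mem_fbr hx hy⟩
    · apply fbr_le
      rintro b b' y ⟨h1, h2⟩ y' ⟨h3, h4⟩
      refine ⟨fbr_fgen_le F _ (lie_mem_fbr h1 h3), fun a x hx => ?_⟩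
      rw [leibniz_lie, ← lie_skew y]
      have h5 : ⁅x, y⁆ ∈ fgen F (a + b) := fbr_fgen_le F _ (lie_mem_fbr hx h1)
      have h6 : ⁅x, y'⁆ ∈ fgen F (a + b') := fbr_fgen_le F _ (lie_mem_fbr hx h3)
      have h7 := h4 _ _ h5
      have h8 := h2 _ _ h6
      rw [add_assoc] at h7 h8
      rw [add_comm b' b] at h8
      exact add_mem h7 (neg_mem h8)
  exact fbr_le fun a b x hx y hy => (hH b hy).2 a x hx

/-- The part of a family in the degrees `> k`. -/
def ftr (F : ZMod n → AddSubgroup L) (k : ℕ) : ZMod n → AddSubgroup L := fun i =>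
  if k < i.val then F i else ⊥

theorem ftr_of_lt (F : ZMod n → AddSubgroup L) {k : ℕ} {i : ZMod n} (h : k < i.val) :
    ftr F k i = F i := if_pos h

theorem ftr_of_not_lt (F : ZMod n → AddSubgroup L) {k : ℕ} {i : ZMod n} (h : ¬ k < i.val) :
    ftr F k i = ⊥ := if_neg h

theorem ftr_le (F : ZMod n → AddSubgroup L) (k : ℕ) : ftr F k ≤ F := by
  intro i
  by_cases h : k < i.val
  · rw [ftr_of_lt F h]
  · rw [ftr_of_not_lt F h]; exact bot_le

theorem fgen_ftr_le {F : ZMod n → AddSubgroup L} (hF : fbr F F ≤ F) (k : ℕ) :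
    fgen (ftr F k) ≤ F := fgen_le (ftr_le F k) hF

/-- The main step of Kreknin's theorem. -/
theorem kreknin_aux [NeZero n] (k : ℕ) : ∀ F : ZMod n → AddSubgroup L, fbr F F ≤ F → F 0 = ⊥ →
    fder F (2 ^ k - 1) ≤ fgen (ftr F k) := by
  induction k with
  | zero =>
    intro F _ h0 i
    by_cases hi : 0 < i.val
    · refine le_trans ?_ (le_fgen _ i)
      rw [ftr_of_lt F hi]
      exact le_rfl
    · have : i = 0 := by
        rw [← ZMod.val_eq_zero]; omega
      subst this
      change F 0 ≤ _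
      rw [h0]
      exact bot_le
  | succ k ih =>
    intro F hF h0
    have h1 := ih F hF h0
    set H := fgen (ftr F k) with hH
    have hHF : H ≤ F := fgen_ftr_le hF k
    have hHH : fbr H H ≤ H := fbr_fgen_le _
    set M := fbr H H with hM
    have hMM : fbr M M ≤ M := fbr_mono hHH hHH
    have hM0 : M 0 = ⊥ := by
      rw [eq_bot_iff, ← h0]
      exact (hHH 0).trans (hHF 0)
    have h2 := ih M hMM hM0
    have h3 : fder F (2 ^ (k + 1) - 1) ≤ fder M (2 ^ k - 1) := by
      have h4 : 2 ^ (k + 1) - 1 = (2 ^ k - 1) + 1 + (2 ^ k - 1) := by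
        have := Nat.one_le_two_pow (n := k)
        rw [pow_succ]; omega
      rw [h4, fder_add]
      exact fder_mono (fbr_mono h1 h1) _
    refine h3.trans (h2.trans (fgen_le ?_ (fbr_fgen_le _)))
    intro i
    by_cases hi : k < i.val
    · rw [ftr_of_lt M hi]
      by_cases hi' : k + 1 < i.val
      · refine le_trans ?_ (le_fgen _ i)
        rw [ftr_of_lt F hi']
        exact (hHH i).trans (hHF i)
      · have hik : i.val = k + 1 := by omega
        refine le_trans (fbr_fgen_le_fbr (ftr F k) i) ?_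
        apply (AddSubgroup.closure_le _).mpr
        rintro _ ⟨a, b, hab, x, hx, y, hy, rfl⟩
        rw [← hH] at hx
        by_cases hb : k < b.val
        · rw [ftr_of_lt F hb] at hy
          by_cases hb' : b.val = k + 1
          · have hbi : b = i := ZMod.val_injective n (by rw [hb', hik])
            have ha : a = 0 := by
              rw [hbi] at hab
              exact add_eq_right.mp hab
            have hx0 : x = 0 := by
              have := hHF a hx
              rw [ha, h0] at this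
              exact (AddSubgroup.mem_bot).mp this
            rw [hx0, zero_lie]
            exact zero_mem _
          · have hb2 : k + 1 < b.val := by omega
            have hval : (a + b).val = if a.val + b.val < n then a.val + b.val
                else a.val + b.val - n := by
              rw [ZMod.val_add]
              have h5 := ZMod.val_lt a
              have h6 := ZMod.val_lt b
              split_ifs with h7
              · exact Nat.mod_eq_of_lt h7
              · rw [Nat.mod_eq_sub_mod (by omega), Nat.mod_eq_of_lt (by omega)]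
            rw [hab, hik] at hval
            have h5 := ZMod.val_lt a
            have h6 := ZMod.val_lt b
            have ha2 : k + 1 < a.val := by
              split_ifs at hval <;> omega
            have hx' : x ∈ fgen (ftr F (k + 1)) a := by
              apply le_fgen
              rw [ftr_of_lt F ha2]
              exact hHF a hx
            have hy' : y ∈ fgen (ftr F (k + 1)) b := by
              apply le_fgen
              rw [ftr_of_lt F hb2]
              exact hy
            exact fbr_fgen_le _ _ (lie_mem_fbr' hab hx' hy')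
        · rw [ftr_of_not_lt F hb, AddSubgroup.mem_bot] at hy
          rw [hy, lie_zero]
          exact zero_mem _
    · rw [ftr_of_not_lt M hi]
      exact bot_le

/-- **Kreknin's theorem.** A `ℤ/n`-graded Lie ring with trivial zero component is solvable of
derived length at most `2 ^ (n - 1) - 1`. -/
theorem kreknin [NeZero n] (F : ZMod n → AddSubgroup L) (hF : fbr F F ≤ F) (h0 : F 0 = ⊥) :
    fder F (2 ^ (n - 1) - 1) = ⊥ := by
  rw [eq_bot_iff]
  refine (kreknin_aux (n - 1) F hF h0).trans (fgen_le ?_ ?_)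
  · intro i
    have : ¬ n - 1 < i.val := by
      have := ZMod.val_lt i
      omega
    rw [ftr_of_not_lt F this]
    exact bot_le
  · apply fbr_le
    intro a b x hx y hy
    have : x = 0 := hx
    rw [this, zero_lie]
    exact zero_mem _

end Cfsg.Agent.H449
end

-- part: H449/Kostrikin
section
/-!
# The Kreknin–Kostrikin class bound

A `ℤ/p`-graded Lie ring (`p` prime) with trivial zero component, solvable of derived length `s`,
is nilpotent of class at most `1 + (p - 1) + ⋯ + (p - 1) ^ (s - 1)`.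
-/

set_option autoImplicit false

namespace Cfsg.Agent.H449

variable {L : Type*} [LieRing L] {n : ℕ}

theorem flcs_le {F : ZMod n → AddSubgroup L} (hF : fbr F F ≤ F) (k : ℕ) : flcs F k ≤ F := by
  induction k with
  | zero => exact le_rfl
  | succ k ih => exact (fbr_mono ih le_rfl).trans hF

theorem flcs_anti {F : ZMod n → AddSubgroup L} (hF : fbr F F ≤ F) : Antitone (flcs F) := by
  apply antitone_nat_of_succ_le
  intro k
  induction k with
  | zero => exact hF
  | succ k ih => exact fbr_mono ih le_rfl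

theorem fder_le {F : ZMod n → AddSubgroup L} (hF : fbr F F ≤ F) (k : ℕ) : fder F k ≤ F := by
  induction k with
  | zero => exact le_rfl
  | succ k ih => exact (fbr_mono ih ih).trans hF

/-- Jacobi for families: `[A, [B, C]] ≤ [[A, B], C] + [[A, C], B]`. -/
theorem fbr_fbr_le {A B C H : ZMod n → AddSubgroup L} (h1 : fbr (fbr A B) C ≤ H)
    (h2 : fbr (fbr A C) B ≤ H) : fbr A (fbr B C) ≤ H := by
  apply fbr_le
  intro a d x hx y hy
  have key : fbr B C ≤ fun d => 
      { carrier := {y | ∀ a : ZMod n, ∀ x ∈ A a, ⁅x, y⁆ ∈ H (a + d)}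
        add_mem' := by
          intro y y' h1 h2 a x hx
          rw [lie_add]
          exact add_mem (h1 a x hx) (h2 a x hx)
        zero_mem' := fun a x _ => by rw [lie_zero]; exact zero_mem _
        neg_mem' := by
          intro y h1 a x hx
          rw [lie_neg]
          exact neg_mem (h1 a x hx) } := by
    apply fbr_le
    intro b c y hy z hz a x hx
    rw [leibniz_lie, ← lie_skew y]
    have h3 := h1 _ (lie_mem_fbr (lie_mem_fbr hx hy) hz)
    have h4 := h2 _ (lie_mem_fbr (lie_mem_fbr hx hz) hy)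
    rw [add_assoc] at h3 h4
    rw [add_comm c b] at h4
    exact add_mem h3 (neg_mem h4)
  exact key d hy a x hx

theorem fbr_flcs_flcs (F : ZMod n → AddSubgroup L) (b : ℕ) :
    ∀ a : ℕ, fbr (flcs F a) (flcs F b) ≤ flcs F (a + b + 1) := by
  induction b with
  | zero => intro a; exact le_rfl
  | succ b ih =>
    intro a
    apply fbr_fbr_le
    · exact fbr_mono (ih a) le_rfl
    · have := ih (a + 1)
      rw [show a + 1 + b + 1 = a + (b + 1) + 1 by ring] at this
      exact this

/-- An ideal of a family is stable under the bracket with the derived series. -/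
theorem fbr_fder_le (F : ZMod n → AddSubgroup L) (hF : fbr F F ≤ F) (k : ℕ) :
    fbr (fder F k) F ≤ fder F k := by
  induction k with
  | zero => exact hF
  | succ k ih =>
    change fbr (fbr (fder F k) (fder F k)) F ≤ fbr (fder F k) (fder F k)
    rw [fbr_comm _ F]
    apply fbr_fbr_le
    · rw [fbr_comm F]
      exact fbr_mono ih le_rfl
    · rw [fbr_comm F]
      exact fbr_mono ih le_rfl

/-- Iterated bracket along a list. -/
def lbr {α : Type*} (f : α → L) (m : L) (l : List α) : L := l.foldl (fun y d => ⁅y, f d⁆) m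

section

variable {α : Type*} (f : α → L)

theorem lbr_nil (m : L) : lbr f m [] = m := rfl

theorem lbr_cons (m : L) (d : α) (l : List α) : lbr f m (d :: l) = lbr f ⁅m, f d⁆ l := rfl

theorem lbr_append (m : L) (l l' : List α) : lbr f m (l ++ l') = lbr f (lbr f m l) l' :=
  List.foldl_append

theorem lbr_sub (m m' : L) (l : List α) : lbr f (m - m') l = lbr f m l - lbr f m' l := by
  induction l generalizing m m' with
  | nil => rfl
  | cons d l ih => rw [lbr_cons, lbr_cons, lbr_cons, sub_lie, ih]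

theorem lbr_add (m m' : L) (l : List α) : lbr f (m + m') l = lbr f m l + lbr f m' l := by
  induction l generalizing m m' with
  | nil => rfl
  | cons d l ih => rw [lbr_cons, lbr_cons, lbr_cons, add_lie, ih]

theorem lbr_neg (m : L) (l : List α) : lbr f (-m) l = - lbr f m l := by
  induction l generalizing m with
  | nil => rfl
  | cons d l ih => rw [lbr_cons, lbr_cons, neg_lie, ih]

theorem lbr_zero (l : List α) : lbr f 0 l = 0 := by
  induction l with
  | nil => rfl
  | cons d l ih => rw [lbr_cons, zero_lie, ih]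

end

/-- Subset sums of `p - 1` nonzero residues cover `ℤ/p`. -/
theorem exists_sublist_sum {p : ℕ} [Fact p.Prime] (l : List (ZMod p)) (hl : ∀ x ∈ l, x ≠ 0)
    (hlen : p ≤ l.length + 1) (a : ZMod p) : ∃ s : List (ZMod p), s.Sublist l ∧ s.sum = a := by
  classical
  -- the set of subset sums
  have key : ∀ l : List (ZMod p), (∀ x ∈ l, x ≠ 0) → ∃ T : Finset (ZMod p),
      (∀ t ∈ T, ∃ s : List (ZMod p), s.Sublist l ∧ s.sum = t) ∧ 0 ∈ T ∧
        min p (l.length + 1) ≤ T.card := by
    intro l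
    induction l with
    | nil =>
      intro _
      refine ⟨{0}, ?_, by simp, by simp⟩
      intro t ht
      rw [Finset.mem_singleton] at ht
      exact ⟨[], List.Sublist.refl _, by rw [ht]; rfl⟩
    | cons x l ih =>
      intro h
      obtain ⟨T, hT, h0, hc⟩ := ih (fun y hy => h y (List.mem_cons_of_mem _ hy))
      have hx : x ≠ 0 := h x List.mem_cons_self
      refine ⟨T ∪ T.image (x + ·), ?_, Finset.mem_union_left _ h0, ?_⟩
      · intro t ht
        rcases Finset.mem_union.mp ht with ht | ht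
        · obtain ⟨s, hs, hs'⟩ := hT t ht
          exact ⟨s, hs.trans (List.sublist_cons_self _ _), hs'⟩
        · obtain ⟨t', ht', rfl⟩ := Finset.mem_image.mp ht
          obtain ⟨s, hs, hs'⟩ := hT t' ht'
          exact ⟨x :: s, List.Sublist.cons_cons _ hs, by rw [List.sum_cons, hs']⟩
      · by_cases hsub : T.image (x + ·) ⊆ T
        · -- `T` is everything
          have hall : ∀ k : ℕ, (k : ZMod p) * x ∈ T := by
            intro k
            induction k with
            | zero => simpa using h0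
            | succ k ih =>
              have := hsub (Finset.mem_image_of_mem (x + ·) ih)
              rw [Nat.cast_succ, add_mul, one_mul, add_comm]
              exact this
          have huniv : T = Finset.univ := by
            rw [Finset.eq_univ_iff_forall]
            intro y
            have := hall (y * x⁻¹).val
            rwa [ZMod.natCast_zmod_val, mul_assoc, inv_mul_cancel₀ hx, mul_one] at this
          have h5 : T.card = p := by rw [huniv, Finset.card_univ, ZMod.card]
          have h6 := Finset.card_le_card (Finset.subset_union_left (s₁ := T)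
            (s₂ := T.image (x + ·)))
          rw [h5] at h6
          exact (min_le_left _ _).trans h6
        · obtain ⟨y, hy, hy'⟩ := Finset.not_subset.mp hsub
          have h6 : (insert y T).card ≤ (T ∪ T.image (x + ·)).card := by
            apply Finset.card_le_card
            apply Finset.insert_subset (Finset.mem_union_right _ hy) Finset.subset_union_left
          rw [Finset.card_insert_of_notMem hy'] at h6
          rw [List.length_cons]
          omega
  obtain ⟨T, hT, _, hc⟩ := key l hl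
  have huniv : T = Finset.univ := by
    apply Finset.eq_univ_of_card
    rw [ZMod.card]
    have h1 : T.card ≤ p := by
      have := Finset.card_le_univ T
      rwa [ZMod.card] at this
    omega
  exact hT a (by rw [huniv]; exact Finset.mem_univ a)

/-- A sublist `s` of `l` can be moved to the front by a permutation. -/
theorem exists_perm_append {α : Type*} {s l : List α} (h : s.Sublist l) :
    ∃ t : List α, l.Perm (s ++ t) := by
  induction h with
  | slnil => exact ⟨[], List.Perm.refl _⟩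
  | cons a _ ih =>
    obtain ⟨t, ht⟩ := ih
    exact ⟨a :: t, (List.Perm.cons a ht).trans List.perm_middle.symm⟩
  | cons_cons a _ ih =>
    obtain ⟨t, ht⟩ := ih
    exact ⟨t, List.Perm.cons a ht⟩

/-- A sublist of `l.map g` lifts to a sublist of `l`. -/
theorem exists_sublist_map {α β : Type*} (g : α → β) {s : List β} {l : List α}
    (h : s.Sublist (l.map g)) : ∃ t : List α, t.Sublist l ∧ t.map g = s := by
  obtain ⟨t, ht, hs⟩ := List.sublist_map_iff.mp h
  exact ⟨t, ht, hs.symm⟩

section Main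

variable {p : ℕ}

/-- Every entry `(x, w, e)` of the list has `x` in degree `e` of the term `w` of the lower central
series. -/
def Good (F : ZMod p → AddSubgroup L) (l : List (L × ℕ × ZMod p)) : Prop :=
  ∀ d ∈ l, d.1 ∈ flcs F d.2.1 d.2.2

omit [LieRing L]

/-- The total weight. -/
def wt (l : List (L × ℕ × ZMod p)) : ℕ := (l.map fun d => d.2.1 + 1).sum

/-- The total degree. -/
def dg (l : List (L × ℕ × ZMod p)) : ZMod p := (l.map fun d => d.2.2).sum

theorem dg_cons (d : L × ℕ × ZMod p) (l : List (L × ℕ × ZMod p)) :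
    dg (d :: l) = d.2.2 + dg l := rfl

theorem wt_cons (d : L × ℕ × ZMod p) (l : List (L × ℕ × ZMod p)) :
    wt (d :: l) = d.2.1 + 1 + wt l := rfl

theorem dg_append (l l' : List (L × ℕ × ZMod p)) : dg (l ++ l') = dg l + dg l' := by
  simp [dg]

theorem wt_append (l l' : List (L × ℕ × ZMod p)) : wt (l ++ l') = wt l + wt l' := by
  simp [wt]

theorem dg_perm {l l' : List (L × ℕ × ZMod p)} (h : l.Perm l') : dg l = dg l' :=
  (h.map _).sum_eq

theorem wt_perm {l l' : List (L × ℕ × ZMod p)} (h : l.Perm l') : wt l = wt l' :=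
  (h.map _).sum_eq

variable [LieRing L]

theorem good_perm {F : ZMod p → AddSubgroup L} {l l' : List (L × ℕ × ZMod p)} (h : l.Perm l')
    (hl : Good F l) : Good F l' := fun d hd => hl d (h.mem_iff.mpr hd)

theorem lbr_mem {F M : ZMod p → AddSubgroup L} (hF : fbr F F ≤ F) (hM : fbr M F ≤ M)
    (l : List (L × ℕ × ZMod p)) (hl : Good F l) :
    ∀ (i : ZMod p) (m : L), m ∈ M i → lbr (fun d => d.1) m l ∈ M (i + dg l) := by
  induction l with
  | nil => intro i m hm; simpa [dg, lbr] using hm
  | cons d l ih =>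
    intro i m hm
    rw [lbr_cons, dg_cons, ← add_assoc]
    apply ih (fun x hx => hl x (List.mem_cons_of_mem _ hx))
    exact hM _ (lie_mem_fbr hm (flcs_le hF _ _ (hl d List.mem_cons_self)))

/-- Reordering the entries does not matter modulo `N`, if shorter products lie in `N`. -/
theorem lbr_perm_sub {F M N : ZMod p → AddSubgroup L} (t k : ℕ)
    (ih : ∀ l : List (L × ℕ × ZMod p), Good F l → l.length < t → k ≤ wt l →
      ∀ (i : ZMod p) (m : L), m ∈ M i → lbr (fun d => d.1) m l ∈ N (i + dg l))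
    {l1 l2 : List (L × ℕ × ZMod p)} (h : l1.Perm l2) :
    ∀ a : List (L × ℕ × ZMod p), Good F (a ++ l1) → (a ++ l1).length ≤ t → k ≤ wt (a ++ l1) →
      ∀ (i : ZMod p) (m : L), m ∈ M i →
        lbr (fun d => d.1) m (a ++ l1) - lbr (fun d => d.1) m (a ++ l2) ∈ N (i + dg (a ++ l1)) := by
  induction h with
  | nil => intro a _ _ _ i m _; rw [sub_self]; exact zero_mem _
  | cons x h ih2 =>
    rename_i l1 l2
    intro a hG hlen hk i m hm
    have := ih2 (a ++ [x]) (by simpa using hG) (by simpa using hlen) (by simpa using hk) i m hm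
    simpa using this
  | swap x y l =>
    intro a hG hlen hk i m hm
    -- `z = [y, x]`
    have h1 : lbr (fun d : L × ℕ × ZMod p => d.1) m (a ++ y :: x :: l) -
        lbr (fun d => d.1) m (a ++ x :: y :: l) =
        lbr (fun d => d.1) m (a ++ (⁅y.1, x.1⁆, y.2.1 + x.2.1 + 1, y.2.2 + x.2.2) :: l) := by
      rw [lbr_append, lbr_append, lbr_append, lbr_cons, lbr_cons, lbr_cons, lbr_cons, lbr_cons,
        ← lbr_sub]
      congr 1
      rw [leibniz_lie, ← lie_skew y.1, sub_eq_add_neg]
    rw [h1]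
    have hy : y.1 ∈ flcs F y.2.1 y.2.2 := hG y (by simp)
    have hx : x.1 ∈ flcs F x.2.1 x.2.2 := hG x (by simp)
    have hz : ⁅y.1, x.1⁆ ∈ flcs F (y.2.1 + x.2.1 + 1) (y.2.2 + x.2.2) :=
      fbr_flcs_flcs F _ _ _ (lie_mem_fbr hy hx)
    have h2 := ih (a ++ (⁅y.1, x.1⁆, y.2.1 + x.2.1 + 1, y.2.2 + x.2.2) :: l) (by
      intro d hd
      rcases List.mem_append.mp hd with hd | hd
      · exact hG d (List.mem_append_left _ hd)
      · rcases List.mem_cons.mp hd with rfl | hd
        · exact hz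
        · exact hG d (by simp [hd])) (by simp at hlen ⊢; omega) (by
      rw [wt_append, wt_cons, wt_cons] at hk
      rw [wt_append, wt_cons]
      simp only at hk ⊢
      omega) i m hm
    have h3 : dg (a ++ (⁅y.1, x.1⁆, y.2.1 + x.2.1 + 1, y.2.2 + x.2.2) :: l) =
        dg (a ++ y :: x :: l) := by
      rw [dg_append, dg_append, dg_cons, dg_cons, dg_cons]
      ring
    rwa [h3] at h2
  | trans h1 h2 ih1 ih2 =>
    rename_i l1 l2 l3
    intro a hG hlen hk i m hm
    have hp : (a ++ l1).Perm (a ++ l2) := h1.append_left a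
    have h3 := ih1 a hG hlen hk i m hm
    have h4 := ih2 a (good_perm hp hG) (by rw [← hp.length_eq]; exact hlen)
      (by rw [← wt_perm hp]; exact hk) i m hm
    rw [← dg_perm hp] at h4
    have h5 := add_mem h3 h4
    rwa [sub_add_sub_cancel] at h5

/-- The main lemma: products `[m, x₁, …, x_t]` of large total weight vanish modulo `[M, M]`. -/
theorem lbr_mem_of_wt [Fact p.Prime] {F M : ZMod p → AddSubgroup L} (hF : fbr F F ≤ F)
    (h0 : F 0 = ⊥) (hMF : M ≤ F) (hM : fbr M F ≤ M) (hN : fbr (fbr M M) F ≤ fbr M M)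
    (c : ℕ) (hc : flcs F c ≤ M) (t : ℕ) :
    ∀ l : List (L × ℕ × ZMod p), Good F l → l.length = t → (p - 2) * c + 1 ≤ wt l →
      ∀ (i : ZMod p) (m : L), m ∈ M i → lbr (fun d => d.1) m l ∈ fbr M M (i + dg l) := by
  have hp : p.Prime := Fact.out
  induction t using Nat.strong_induction_on with
  | _ t ih =>
  intro l hG hlen hk i m hm
  by_cases hbig : ∃ d ∈ l, c ≤ d.2.1
  · obtain ⟨d, hd, hdc⟩ := hbig
    obtain ⟨l1, l2, rfl⟩ := List.append_of_mem hd
    rw [lbr_append, lbr_cons, dg_append, dg_cons]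
    have h1 : lbr (fun d : L × ℕ × ZMod p => d.1) m l1 ∈ M (i + dg l1) :=
      lbr_mem hF hM l1 (fun x hx => hG x (List.mem_append_left _ hx)) i m hm
    have h2 : d.1 ∈ M d.2.2 := by
      exact hc _ (flcs_anti hF hdc _ (hG d hd))
    have h3 := lie_mem_fbr h1 h2
    have h4 := lbr_mem hF hN l2 (fun x hx => hG x (by simp [hx])) _ _ h3
    rw [add_assoc, add_assoc] at h4
    exact h4
  · push Not at hbig
    -- the number of factors is at least `p - 1`
    have hlen2 : p ≤ l.length + 1 := by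
      have h1 : wt l ≤ l.length * c := by
        clear hk hlen hG ih
        induction l with
        | nil => simp [wt]
        | cons d l ih2 =>
          rw [wt_cons, List.length_cons]
          have h2 := ih2 (fun x hx => hbig x (List.mem_cons_of_mem _ hx))
          have h3 := hbig d List.mem_cons_self
          rw [Nat.succ_mul]
          omega
      by_contra hlt
      have h2 : l.length ≤ p - 2 := by omega
      have h3 := Nat.mul_le_mul_right c h2
      omega
    by_cases hz : ∃ d ∈ l, d.2.2 = 0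
    · obtain ⟨d, hd, hd0⟩ := hz
      have h1 : d.1 = 0 := by
        have h2 := flcs_le hF _ _ (hG d hd)
        rw [hd0, h0] at h2
        exact AddSubgroup.mem_bot.mp h2
      obtain ⟨l1, l2, rfl⟩ := List.append_of_mem hd
      rw [lbr_append, lbr_cons, h1, lie_zero, lbr_zero]
      exact zero_mem _
    · push Not at hz
      obtain ⟨s, hs, hsum⟩ := exists_sublist_sum (l.map fun d => d.2.2) (by
        intro x hx
        obtain ⟨d, hd, rfl⟩ := List.mem_map.mp hx
        exact hz d hd) (by rw [List.length_map]; exact hlen2) (-i)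
      obtain ⟨u, hu, rfl⟩ := exists_sublist_map _ hs
      obtain ⟨v, hv⟩ := exists_perm_append hu
      have h1 := lbr_perm_sub (F := F) (M := M) (N := fbr M M) t ((p - 2) * c + 1)
        (fun l' hG' hlen' hk' => ih l'.length hlen' l' hG' rfl hk') hv [] hG hlen.le hk i m hm
      have h2 : lbr (fun d : L × ℕ × ZMod p => d.1) m u = 0 := by
        have h3 := lbr_mem hF hM u (fun x hx => hG x (hu.subset hx)) i m hm
        have h4 : dg u = -i := hsum
        rw [h4, add_neg_cancel] at h3
        have h5 := hMF _ h3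
        rw [h0] at h5
        exact AddSubgroup.mem_bot.mp h5
      rw [List.nil_append, List.nil_append, lbr_append, h2, lbr_zero, sub_zero] at h1
      exact h1

/-- The Kreknin–Kostrikin bound `1 + (p - 1) + ⋯ + (p - 1) ^ (s - 1)`. -/
theorem flcs_le_fder [Fact p.Prime] {F : ZMod p → AddSubgroup L} (hF : fbr F F ≤ F)
    (h0 : F 0 = ⊥) (s : ℕ) :
    flcs F (Finset.sum (Finset.range s) (fun i => (p - 1) ^ i)) ≤ fder F s := by
  have hp : p.Prime := Fact.out
  induction s with
  | zero => exact le_rfl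
  | succ s ih =>
    set c := Finset.sum (Finset.range s) (fun i => (p - 1) ^ i) with hc
    have hsum : Finset.sum (Finset.range (s + 1)) (fun i => (p - 1) ^ i) =
        c + ((p - 2) * c + 1) := by
      rw [Finset.sum_range_succ', pow_zero]
      have h1 : ∑ k ∈ Finset.range s, (p - 1) ^ (k + 1) = c * (p - 1) := by
        rw [hc, Finset.sum_mul]
        exact Finset.sum_congr rfl fun k _ => pow_succ _ _
      obtain ⟨q, hq⟩ : ∃ q, p = q + 2 := ⟨p - 2, by have := hp.two_le; omega⟩
      rw [h1, hq]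
      simp only [Nat.add_sub_cancel]
      rw [show q + 2 - 1 = q + 1 by omega]
      ring
    rw [hsum]
    set M := fder F s with hM
    have hMF : M ≤ F := fder_le hF s
    have hM1 : fbr M F ≤ M := fbr_fder_le F hF s
    have hN1 : fbr (fbr M M) F ≤ fbr M M := fbr_fder_le F hF (s + 1)
    -- iterated brackets
    have key : ∀ k' : ℕ, ∀ (i : ZMod p) (x : L), x ∈ flcs F (c + k') i →
        ∀ l : List (L × ℕ × ZMod p), Good F l → (p - 2) * c + 1 ≤ k' + wt l →
          lbr (fun d => d.1) x l ∈ fbr M M (i + dg l) := by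
      intro k'
      induction k' with
      | zero =>
        intro i x hx l hG hk
        exact lbr_mem_of_wt hF h0 hMF hM1 hN1 c ih l.length l hG rfl (by omega) i x (ih _ hx)
      | succ k' ihk =>
        intro i x hx l hG hk
        change x ∈ fbr (flcs F (c + k')) F i at hx
        induction hx using AddSubgroup.closure_induction with
        | mem x hx =>
          obtain ⟨a, b, hab, y, hy, z, hz, rfl⟩ := hx
          have h1 := ihk a y hy ((z, 0, b) :: l) (by
            intro d hd
            rcases List.mem_cons.mp hd with rfl | hd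
            · exact hz
            · exact hG d hd) (by rw [wt_cons]; simp only; omega)
          rw [lbr_cons, dg_cons, ← add_assoc] at h1
          simp only at h1
          rw [hab] at h1
          exact h1
        | zero => rw [lbr_zero]; exact zero_mem _
        | add x y _ _ h1 h2 => rw [lbr_add]; exact add_mem h1 h2
        | neg x _ h1 => rw [lbr_neg]; exact neg_mem h1
    intro i x hx
    have h1 := key _ i x hx [] (by intro d hd; simp at hd) (by simp [wt])
    change x ∈ fbr M M i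
    simpa [lbr, dg] using h1

/-- **Higman–Kreknin–Kostrikin.** A `ℤ/p`-graded Lie ring, `p` prime, with trivial zero component
is nilpotent of class at most `1 + (p - 1) + ⋯ + (p - 1) ^ (2 ^ (p - 1) - 2)`. -/
theorem flcs_eq_bot [Fact p.Prime] (F : ZMod p → AddSubgroup L) (hF : fbr F F ≤ F)
    (h0 : F 0 = ⊥) :
    flcs F (Finset.sum (Finset.range (2 ^ (p - 1) - 1)) (fun i => (p - 1) ^ i)) = ⊥ := by
  rw [eq_bot_iff, ← kreknin F hF h0]
  exact flcs_le_fder hF h0 _

/-- For `p = 3` the class is at most `2`. -/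
theorem flcs_three_eq_bot (F : ZMod 3 → AddSubgroup L) (hF : fbr F F ≤ F) (h0 : F 0 = ⊥) :
    flcs F 2 = ⊥ := by
  rw [eq_bot_iff]
  have hz : ∀ a : ZMod 3, ∀ x ∈ F a, a = 0 → x = 0 := by
    intro a x hx ha
    rw [ha, h0] at hx
    exact AddSubgroup.mem_bot.mp hx
  have hb : ∀ a b : ZMod 3, ∀ x ∈ F a, ∀ y ∈ F b, a + b = 0 → ⁅x, y⁆ = 0 := by
    intro a b x hx y hy hab
    exact hz _ _ (hF _ (lie_mem_fbr hx hy)) hab
  have key : ∀ a b c : ZMod 3, ∀ x ∈ F a, ∀ y ∈ F b, ∀ z ∈ F c, ⁅⁅x, y⁆, z⁆ = 0 := by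
    intro a b c x hx y hy z hz'
    by_cases h1 : a + b + c = 0
    · exact hb _ _ _ (hF _ (lie_mem_fbr hx hy)) _ hz' h1
    by_cases h2 : a = 0
    · rw [hz a x hx h2, zero_lie, zero_lie]
    by_cases h3 : b = 0
    · rw [hz b y hy h3, lie_zero, zero_lie]
    by_cases h4 : c = 0
    · rw [hz c z hz' h4, lie_zero]
    by_cases h5 : a + b = 0
    · rw [hb a b x hx y hy h5, zero_lie]
    · have h6 : a + c = 0 ∧ b + c = 0 := by
        clear hz' hy hx hz hb
        revert h1 h2 h3 h4 h5
        revert a b c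
        decide
      rw [lie_lie, hb b c y hy z hz' h6.2, hb a c x hx z hz' h6.1, lie_zero, lie_zero, sub_zero]
  have h2 : fbr (fbr F F) F ≤ ⊥ := by
    have h3 : fbr F F ≤ fun d =>
        { carrier := {y | ∀ c : ZMod 3, ∀ z ∈ F c, ⁅y, z⁆ = 0}
          add_mem' := by
            intro y y' h1 h2 c z hz
            rw [add_lie, h1 c z hz, h2 c z hz, add_zero]
          zero_mem' := fun c z _ => zero_lie z
          neg_mem' := by
            intro y h1 c z hz
            rw [neg_lie, h1 c z hz, neg_zero] } :=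
      fbr_le fun a b x hx y hy c z hz' => key a b c x hx y hy z hz'
    exact fbr_le fun d c y hy z hz' => (h3 d hy) c z hz'
  exact h2

end Main

end Cfsg.Agent.H449
end

-- part: H449/Eigen
section
/-!
# Lie rings with an automorphism of prime order

Extension of scalars to `ℤ[ω]` turns an automorphism of order `p` into a `ℤ/p`-grading (up to
`p`-torsion).
-/

set_option autoImplicit false

namespace Cfsg.Agent.H449

open scoped TensorProduct

/-- A free extension of `ℤ` containing a `p`-th root of unity. -/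
theorem exists_root_ring (p : ℕ) (hp : p.Prime) :
    ∃ (A : Type) (_ : CommRing A), Module.Free ℤ A ∧ Nontrivial A ∧
      ∃ ω : A, ω ^ p = 1 ∧ ∑ j ∈ Finset.range p, ω ^ j = 0 := by
  have hmonic : (Polynomial.cyclotomic p ℤ).Monic := Polynomial.cyclotomic.monic p ℤ
  refine ⟨AdjoinRoot (Polynomial.cyclotomic p ℤ), inferInstance,
    Module.Free.of_basis (AdjoinRoot.powerBasis' hmonic).basis, ?_, 
    AdjoinRoot.root (Polynomial.cyclotomic p ℤ), ?_, ?_⟩
  · apply AdjoinRoot.nontrivial
    rw [Polynomial.degree_cyclotomic]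
    have := Nat.totient_pos.mpr hp.pos
    exact_mod_cast this.ne'
  · have h1 : Polynomial.cyclotomic p ℤ ∣ Polynomial.X ^ p - 1 := Polynomial.cyclotomic.dvd_X_pow_sub_one p ℤ
    have h2 : AdjoinRoot.mk (Polynomial.cyclotomic p ℤ) (Polynomial.X ^ p - 1) = 0 :=
      AdjoinRoot.mk_eq_zero.mpr h1
    rw [map_sub, map_pow, map_one, AdjoinRoot.mk_X, sub_eq_zero] at h2
    exact h2
  · have : Fact p.Prime := ⟨hp⟩
    have h2 : AdjoinRoot.mk (Polynomial.cyclotomic p ℤ)
        (∑ i ∈ Finset.range p, Polynomial.X ^ i) = 0 :=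
      AdjoinRoot.mk_eq_zero.mpr (dvd_of_eq (Polynomial.cyclotomic_prime ℤ p))
    rw [map_sum] at h2
    simpa only [map_pow, AdjoinRoot.mk_X] using h2

section

variable {L : Type*} [LieRing L]

/-- The terms of the lower central series of a Lie ring, as additive subgroups. -/
def lieLcs (L : Type*) [LieRing L] : ℕ → AddSubgroup L
  | 0 => ⊤
  | k + 1 => AddSubgroup.closure {z | ∃ x ∈ lieLcs L k, ∃ y : L, ⁅x, y⁆ = z}

variable (A : Type) [CommRing A]

/-- The scalar extension of a Lie ring. -/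
def Ext (A : Type) [CommRing A] (L : Type*) [LieRing L] : Type _ := A ⊗[ℤ] L

noncomputable instance extLieRing (A : Type) [CommRing A] (L : Type*) [LieRing L] :
    LieRing (Ext A L) :=
  inferInstanceAs (LieRing (A ⊗[ℤ] L))

noncomputable instance extLieAlgebra (A : Type) [CommRing A] (L : Type*) [LieRing L] :
    LieAlgebra A (Ext A L) :=
  inferInstanceAs (LieAlgebra A (A ⊗[ℤ] L))

/-- Pure tensors. -/
noncomputable def tm (s : A) (x : L) : Ext A L := s ⊗ₜ[ℤ] x

@[elab_as_elim]
theorem Ext.ind {motive : Ext A L → Prop} (x : Ext A L) (h0 : motive 0)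
    (h1 : ∀ s u, motive (tm A s u)) (h2 : ∀ x y, motive x → motive y → motive (x + y)) :
    motive x :=
  TensorProduct.induction_on x h0 h1 h2

theorem lie_tm (s t : A) (x y : L) : ⁅tm A s x, tm A t y⁆ = tm A (s * t) ⁅x, y⁆ := rfl

theorem smul_tm (s t : A) (x : L) : s • tm A t x = tm A (s * t) x := rfl

/-- The scalar extension of an additive endomorphism. -/
noncomputable def ext (a : L →+ L) : Ext A L →ₗ[A] Ext A L :=
  LinearMap.baseChange A a.toIntLinearMap

theorem ext_tm (a : L →+ L) (s : A) (x : L) : ext A a (tm A s x) = tm A s (a x) := rfl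

theorem ext_lie (a : L →+ L) (ha : ∀ x y, a ⁅x, y⁆ = ⁅a x, a y⁆) (x y : Ext A L) :
    ext A a ⁅x, y⁆ = ⁅ext A a x, ext A a y⁆ := by
  induction x using Ext.ind with
  | h0 => simp
  | h1 s u =>
    induction y using Ext.ind with
    | h0 => simp
    | h1 t v => rw [lie_tm, ext_tm, ext_tm, ext_tm, lie_tm, ha]
    | h2 y y' h1 h2 => rw [lie_add, map_add, map_add, lie_add, h1, h2]
  | h2 x x' h1 h2 => rw [add_lie, map_add, map_add, add_lie, h1, h2]

theorem ext_iterate_add (a : L →+ L) (k : ℕ) (x y : Ext A L) :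
    (ext A a)^[k] (x + y) = (ext A a)^[k] x + (ext A a)^[k] y := by
  induction k generalizing x y with
  | zero => rfl
  | succ k ih => rw [Function.iterate_succ_apply, map_add, ih]; rfl

theorem ext_iterate_zero (a : L →+ L) (k : ℕ) :
    (ext A a)^[k] (0 : Ext A L) = 0 := by
  induction k with
  | zero => rfl
  | succ k ih => rw [Function.iterate_succ_apply, map_zero, ih]

theorem ext_iterate (a : L →+ L) (k : ℕ) (hk : ∀ x, a^[k] x = x) (x : Ext A L) :
    (ext A a)^[k] x = x := by
  have key : ∀ k : ℕ, ∀ (s : A) (u : L), (ext A a)^[k] (tm A s u) = tm A s (a^[k] u) := by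
    intro k
    induction k with
    | zero => intro s u; rfl
    | succ k ih => intro s u; rw [Function.iterate_succ_apply, ext_tm, ih]; rfl
  induction x using Ext.ind with
  | h0 => exact ext_iterate_zero A a k
  | h1 s u => rw [key, hk]
  | h2 x y h1 h2 => rw [ext_iterate_add, h1, h2]

theorem ext_fixed [Module.Free ℤ A] (a : L →+ L) (q : ℕ) (hq : ∀ x, a x = x → q • x = 0)
    (x : Ext A L) (hx : ext A a x = x) : q • x = 0 := by
  let b := Module.Free.chooseBasis ℤ A
  let e : Ext A L ≃+ (Module.Free.ChooseBasisIndex ℤ A →₀ L) :=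
    (TensorProduct.equivFinsuppOfBasisLeft (N := L) b).toAddEquiv
  have h1 : ∀ (y : Ext A L) i, e (ext A a y) i = a (e y i) := by
    intro y i
    induction y using Ext.ind with
    | h0 => simp
    | h1 s u =>
      rw [ext_tm]
      have h3 : ∀ v : L, e (tm A s v) i = b.repr s i • v := fun v =>
        TensorProduct.equivFinsuppOfBasisLeft_apply_tmul_apply b s v i
      rw [h3, h3, map_zsmul]
    | h2 y y' h1 h2 => rw [map_add, map_add, map_add, Finsupp.add_apply, Finsupp.add_apply,
        map_add, h1, h2]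
  have h2 : ∀ i, q • (e x i) = 0 := by
    intro i
    apply hq
    rw [← h1, hx]
  have h3 : e (q • x) = 0 := by
    rw [map_nsmul]
    ext i
    rw [Finsupp.smul_apply, h2, Finsupp.zero_apply]
  exact (map_eq_zero_iff e e.injective).mp h3

theorem tm_injective [Module.Free ℤ A] [Nontrivial A] (x : L) (h : tm A 1 x = 0) : x = 0 := by
  have h1 : Function.Injective (TensorProduct.mk ℤ A L 1) :=
    Module.FaithfullyFlat.tensorProduct_mk_injective L
  exact h1 (h.trans (map_zero _).symm)

theorem nsmul_tm (n : ℕ) (s : A) (x : L) : n • tm A s x = tm A s (n • x) :=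
  (TensorProduct.tmul_smul n s x).symm

end

section Decomp

universe u

variable {A : Type} [CommRing A] {U : Type u} [LieRing U] [LieAlgebra A U]
  {p : ℕ} [Fact p.Prime]

/-- The eigenspaces of an endomorphism. -/
def eig (χ : AddChar (ZMod p) A) (b : U →ₗ[A] U) (j : ZMod p) : AddSubgroup U where
  carrier := {x | b x = χ j • x}
  add_mem' := by
    intro x y hx hy
    have hx' : b x = χ j • x := hx
    have hy' : b y = χ j • y := hy
    change b (x + y) = χ j • (x + y)
    rw [map_add, hx', hy', smul_add]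
  zero_mem' := by
    change b 0 = χ j • (0 : U)
    rw [map_zero, smul_zero]
  neg_mem' := by
    intro x hx
    have hx' : b x = χ j • x := hx
    change b (-x) = χ j • (-x)
    rw [map_neg, hx', smul_neg]

theorem mem_eig {χ : AddChar (ZMod p) A} {b : U →ₗ[A] U} {j : ZMod p} {x : U} :
    x ∈ eig χ b j ↔ b x = χ j • x := Iff.rfl

theorem fbr_eig_le (χ : AddChar (ZMod p) A) (b : U →ₗ[A] U) (hb : ∀ x y, b ⁅x, y⁆ = ⁅b x, b y⁆) :
    fbr (eig χ b) (eig χ b) ≤ eig χ b := by
  apply fbr_le
  intro i j x hx y hy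
  rw [mem_eig] at hx hy ⊢
  rw [hb, hx, hy, smul_lie, lie_smul, smul_smul, AddChar.map_add_eq_mul]

/-- The projections (up to the factor `p`) to the eigenspaces. -/
noncomputable def prj (χ : AddChar (ZMod p) A) (b : U →ₗ[A] U) (j : ZMod p) (x : U) : U :=
  ∑ i : ZMod p, χ (-(i * j)) • (b^[i.val] x)

omit [LieRing U] in
theorem iterate_val_add_one (b : U → U) (hb : ∀ x, b^[p] x = x) (i : ZMod p) (x : U) :
    b^[(i + 1).val] x = b (b^[i.val] x) := by
  have hp : p.Prime := Fact.out
  have h1 : (i + 1).val = (i.val + 1) % p := by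
    rw [ZMod.val_add, ZMod.val_one_eq_one_mod, Nat.add_mod_mod]
  have h2 := ZMod.val_lt i
  rw [← Function.iterate_succ_apply' b]
  by_cases h3 : i.val + 1 < p
  · rw [h1, Nat.mod_eq_of_lt h3]
  · have h4 : i.val + 1 = p := by omega
    rw [h1, h4, Nat.mod_self, Nat.succ_eq_add_one, h4, hb]
    rfl

theorem prj_mem (χ : AddChar (ZMod p) A) (b : U →ₗ[A] U) (hb : ∀ x, (⇑b)^[p] x = x)
    (j : ZMod p) (x : U) : prj χ b j x ∈ eig χ b j := by
  rw [mem_eig, prj, map_sum, Finset.smul_sum]
  have h1 : ∀ i : ZMod p, b (χ (-(i * j)) • ((⇑b)^[i.val] x)) =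
      χ j • (χ (-((i + 1) * j)) • ((⇑b)^[(i + 1).val] x)) := by
    intro i
    rw [map_smul, iterate_val_add_one (⇑b) hb, smul_smul, ← AddChar.map_add_eq_mul]
    congr 2
    ring
  rw [Finset.sum_congr rfl fun i _ => h1 i]
  exact Fintype.sum_equiv (Equiv.addRight (1 : ZMod p)) _
    (fun i => χ j • (χ (-(i * j)) • ((⇑b)^[i.val] x))) fun i => rfl

theorem sum_prj (χ : AddChar (ZMod p) A) (hχ : ∑ j : ZMod p, χ j = 0) (b : U →ₗ[A] U) (x : U) :
    ∑ j : ZMod p, prj χ b j x = p • x := by
  have hp : p.Prime := Fact.out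
  simp only [prj]
  rw [Finset.sum_comm]
  have h1 : ∀ i : ZMod p, ∑ j : ZMod p, χ (-(i * j)) • ((⇑b)^[i.val] x) =
      if i = 0 then p • x else 0 := by
    intro i
    rw [← Finset.sum_smul]
    split_ifs with hi
    · subst hi
      simp only [zero_mul, neg_zero, AddChar.map_zero_eq_one, Finset.sum_const,
        Finset.card_univ, ZMod.card, ZMod.val_zero, Function.iterate_zero, id]
      rw [nsmul_eq_mul, mul_one, Nat.cast_smul_eq_nsmul]
    · have h2 : ∑ j : ZMod p, χ (-(i * j)) = ∑ j : ZMod p, χ j := by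
        have hi' : -i ≠ 0 := neg_ne_zero.mpr hi
        refine Fintype.sum_equiv (Equiv.mulLeft₀ (-i) hi') _ _ fun j => ?_
        rw [Equiv.mulLeft₀_apply]
        exact congrArg χ (neg_mul i j).symm
      rw [h2, hχ, zero_smul]
  rw [Finset.sum_congr rfl fun i _ => h1 i]
  simp

/-- Simultaneously: the terms of the lower central series of the family of eigenspaces, modulo the
elements killed by `q`. -/
theorem flcs_eig_torsion (χ : AddChar (ZMod p) A) (b : U →ₗ[A] U)
    (hb : ∀ x y, b ⁅x, y⁆ = ⁅b x, b y⁆) (q : ℕ) (hq : ∀ x : U, b x = x → q • x = 0) (h : ℕ)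
    (hh : ∀ (V : Type u) [LieRing V] (F : ZMod p → AddSubgroup V), fbr F F ≤ F → F 0 = ⊥ →
      flcs F h = ⊥) (j : ZMod p) (x : U) (hx : x ∈ flcs (eig χ b) h j) : q • x = 0 := by
  let I : LieIdeal A U :=
    { carrier := {x | q • x = 0}
      add_mem' := by
        intro x y hx hy
        have hx' : q • x = 0 := hx
        have hy' : q • y = 0 := hy
        change q • (x + y) = 0
        rw [smul_add, hx', hy', add_zero]
      zero_mem' := smul_zero q
      smul_mem' := by
        intro c x hx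
        have hx' : q • x = 0 := hx
        change q • c • x = 0
        rw [smul_comm, hx', smul_zero]
      lie_mem := by
        intro y x hx
        have hx' : q • x = 0 := hx
        change q • ⁅y, x⁆ = 0
        rw [← lie_nsmul, hx', lie_zero] }
  let π : U →+ U ⧸ I := (LieSubmodule.Quotient.mk' I : U →ₗ[A] U ⧸ I).toAddMonoidHom
  have hπ : ∀ x y : U, π ⁅x, y⁆ = ⁅π x, π y⁆ := fun x y => rfl
  let F' : ZMod p → AddSubgroup (U ⧸ I) := fun j => (eig χ b j).map π
  have hF' : fbr F' F' ≤ F' := by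
    apply fbr_le
    rintro i j _ ⟨x, hx, rfl⟩ _ ⟨y, hy, rfl⟩
    refine ⟨⁅x, y⁆, fbr_eig_le χ b hb _ (lie_mem_fbr hx hy), hπ x y⟩
  have h0 : F' 0 = ⊥ := by
    rw [eq_bot_iff]
    rintro _ ⟨x, hx, rfl⟩
    have hx' : b x = χ 0 • x := hx
    rw [AddChar.map_zero_eq_one, one_smul] at hx'
    rw [AddSubgroup.mem_bot]
    exact (LieSubmodule.Quotient.mk_eq_zero I).mpr (hq x hx')
  have h1 := hh (U ⧸ I) F' hF' h0
  have h2 : ∀ k : ℕ, ∀ (j : ZMod p) (x : U), x ∈ flcs (eig χ b) k j → π x ∈ flcs F' k j := by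
    intro k
    induction k with
    | zero => intro j x hx; exact ⟨x, hx, rfl⟩
    | succ k ih =>
      intro j x hx
      change x ∈ fbr (flcs (eig χ b) k) (eig χ b) j at hx
      induction hx using AddSubgroup.closure_induction with
      | mem x hx =>
        obtain ⟨a, c, hac, y, hy, z, hz, rfl⟩ := hx
        rw [hπ]
        exact lie_mem_fbr' hac (ih a y hy) ⟨z, hz, rfl⟩
      | zero => rw [map_zero]; exact zero_mem _
      | add x y _ _ h1 h2 => rw [map_add]; exact add_mem h1 h2
      | neg x _ h1 => rw [map_neg]; exact neg_mem h1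
  have h3 := h2 h j x hx
  rw [h1] at h3
  have h4 : π x = 0 := AddSubgroup.mem_bot.mp h3
  exact (LieSubmodule.Quotient.mk_eq_zero I).mp h4

end Decomp

/-- **Core theorem.** Let `L` be a Lie ring with an automorphism `a` with `a ^ p = 1` whose fixed
points are killed by `q`. If `h` bounds the class of all `ℤ/p`-graded Lie rings with trivial zero
component, then `q p ^ (h + 1)` kills the `(h + 1)`-st term of the lower central series of `L`. -/
theorem core.{u} {p : ℕ} [Fact p.Prime] (h : ℕ)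
    (hh : ∀ (V : Type u) [LieRing V] (F : ZMod p → AddSubgroup V), fbr F F ≤ F → F 0 = ⊥ →
      flcs F h = ⊥)
    {L : Type u} [LieRing L] (a : L →+ L) (ha : ∀ x y, a ⁅x, y⁆ = ⁅a x, a y⁆)
    (hap : ∀ x, (⇑a)^[p] x = x) (q : ℕ) (hq : ∀ x, a x = x → q • x = 0) :
    ∀ x ∈ lieLcs L h, (q * p ^ (h + 1)) • x = 0 := by
  have hp : p.Prime := Fact.out
  obtain ⟨A, _, hfree, hnt, ω, hω, hsum⟩ := exists_root_ring p hp
  let χ : AddChar (ZMod p) A := AddChar.zmodChar p hω
  have hχ : ∑ j : ZMod p, χ j = 0 := by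
    have h1 : ∀ j : ZMod p, χ j = ω ^ j.val := fun j => AddChar.zmodChar_apply hω j
    rw [Finset.sum_congr rfl fun j _ => h1 j, ← hsum]
    clear h1 χ hsum hω
    obtain ⟨n, rfl⟩ : ∃ n, p = n + 1 := ⟨p - 1, by have := hp.pos; omega⟩
    exact Fin.sum_univ_eq_sum_range (fun j => ω ^ j) (n + 1)
  let b := ext A a
  have hb : ∀ x y, b ⁅x, y⁆ = ⁅b x, b y⁆ := ext_lie A a ha
  have hbp : ∀ x, (⇑b)^[p] x = x := ext_iterate A a p hap
  have hbq : ∀ x, b x = x → q • x = 0 := ext_fixed A a q hq
  have hdec : ∀ x : Ext A L, p • x ∈ ⨆ j, eig χ b j := by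
    intro x
    rw [← sum_prj χ hχ b x]
    exact sum_mem fun j _ => AddSubgroup.mem_iSup_of_mem j (prj_mem χ b hbp j x)
  have key : ∀ k : ℕ, ∀ x ∈ lieLcs L k, (p ^ (k + 1)) • tm A 1 x ∈ ⨆ j, flcs (eig χ b) k j := by
    intro k
    induction k with
    | zero =>
      intro x _
      rw [zero_add, pow_one]
      exact hdec _
    | succ k ih =>
      intro x hx
      change x ∈ AddSubgroup.closure {z | ∃ x ∈ lieLcs L k, ∃ y : L, ⁅x, y⁆ = z} at hx
      induction hx using AddSubgroup.closure_induction with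
      | mem x hx =>
        obtain ⟨y, hy, z, rfl⟩ := hx
        have h1 : (p ^ (k + 1 + 1)) • tm A 1 ⁅y, z⁆ =
            ⁅(p ^ (k + 1)) • tm A 1 y, p • tm A 1 z⁆ := by
          rw [nsmul_lie, lie_nsmul, lie_tm, mul_one, smul_smul, pow_succ p (k + 1)]
        rw [h1]
        have h2 := ih y hy
        have h3 := hdec (tm A 1 z)
        generalize (p ^ (k + 1)) • tm A 1 y = Y at h2
        generalize p • tm A 1 z = Z at h3
        induction h2 using AddSubgroup.iSup_induction' with
        | hp i Y hY =>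
          induction h3 using AddSubgroup.iSup_induction' with
          | hp j Z hZ => exact AddSubgroup.mem_iSup_of_mem (i + j) (lie_mem_fbr hY hZ)
          | h1 => rw [lie_zero]; exact zero_mem _
          | hadd Z Z' _ _ h4 h5 => rw [lie_add]; exact add_mem h4 h5
        | h1 => rw [zero_lie]; exact zero_mem _
        | hadd Y Y' _ _ h4 h5 => rw [add_lie]; exact add_mem h4 h5
      | zero =>
        rw [nsmul_tm, smul_zero]
        have : tm A 1 (0 : L) = 0 := TensorProduct.tmul_zero _ _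
        rw [this]
        exact zero_mem _
      | add x y _ _ h1 h2 =>
        have : tm A 1 (x + y) = tm A 1 x + tm A 1 y := TensorProduct.tmul_add _ _ _
        rw [this, smul_add]
        exact add_mem h1 h2
      | neg x _ h1 =>
        have : tm A 1 (-x) = - tm A 1 x := TensorProduct.tmul_neg _ _
        rw [this, smul_neg]
        exact neg_mem h1
  intro x hx
  apply tm_injective A
  rw [← nsmul_tm, mul_smul]
  have h1 := key h x hx
  generalize (p ^ (h + 1)) • tm A 1 x = X at h1
  induction h1 using AddSubgroup.iSup_induction' with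
  | hp j Y hY => exact flcs_eig_torsion χ b hb q hbq h hh j Y hY
  | h1 => rw [smul_zero]
  | hadd Y Y' _ _ h4 h5 => rw [smul_add, h4, h5, add_zero]

end Cfsg.Agent.H449
end

-- part: H449/GroupCore
section
/-!
# Groups with an automorphism of prime order: exponent of the `h`-th lower central factor
-/

set_option autoImplicit false

namespace Cfsg.Agent.H449

open scoped commutatorElement

universe u

variable {G : Type u} [Group G] (S : NSeries G)

/-- The map induced on `H k / H (k + 1)` by an endomorphism of `G`. -/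
noncomputable def NSeries.mapW (α : G →* G) (k : ℕ) (u : S.W k) : S.W k := S.cls k (α (S.rep u))

variable {α : G →* G} (hα : ∀ k, ∀ x ∈ S.H k, α x ∈ S.H k)

include hα

theorem NSeries.mapW_cls {k : ℕ} {x : G} (hx : x ∈ S.H k) :
    S.mapW α k (S.cls k x) = S.cls k (α x) := by
  have h1 : S.cls k (S.rep (S.cls k x)) = S.cls k x := S.cls_rep _
  rw [S.cls_eq_iff (S.rep_mem _) hx] at h1
  rw [NSeries.mapW, S.cls_eq_iff (hα _ _ (S.rep_mem _)) (hα _ _ hx)]
  have h2 := hα _ _ h1
  rwa [map_mul, map_inv] at h2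

theorem NSeries.mapW_add (k : ℕ) (u v : S.W k) :
    S.mapW α k (u + v) = S.mapW α k u + S.mapW α k v := by
  rw [← S.cls_rep u, ← S.cls_rep v, ← S.cls_mul (S.rep_mem u) (S.rep_mem v),
    S.mapW_cls hα (mul_mem (S.rep_mem u) (S.rep_mem v)), S.mapW_cls hα (S.rep_mem u),
    S.mapW_cls hα (S.rep_mem v), map_mul, S.cls_mul (hα _ _ (S.rep_mem u)) (hα _ _ (S.rep_mem v))]

theorem NSeries.mapW_bk {i j k : ℕ} (h : i + j = k) (u : S.W i) (v : S.W j) :
    S.mapW α k (S.bk k u v) = S.bk k (S.mapW α i u) (S.mapW α j v) := by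
  have hu := S.rep_mem u
  have hv := S.rep_mem v
  rw [← S.cls_rep u, ← S.cls_rep v, S.bk_cls h hu hv, S.mapW_cls hα hu, S.mapW_cls hα hv,
    S.bk_cls h (hα _ _ hu) (hα _ _ hv), S.mapW_cls hα (S.comm_mem h.ge hu hv),
    map_commutatorElement]

theorem NSeries.mapW_iterate (k m : ℕ) {x : G} (hx : x ∈ S.H k) :
    (S.mapW α k)^[m] (S.cls k x) = S.cls k (α^[m] x) := by
  induction m generalizing x with
  | zero => rfl
  | succ m ih =>
    rw [Function.iterate_succ_apply, S.mapW_cls hα hx, ih (hα _ _ hx)]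
    rfl

/-- The endomorphism of the graded Lie ring induced by an endomorphism of `G`. -/
noncomputable def GrLie.map : GrLie S →+ GrLie S where
  toFun f := fun k => S.mapW α k (f k)
  map_zero' := by
    refine GrLie.ext S fun k => ?_
    have h1 := S.mapW_add hα k 0 0
    rw [add_zero] at h1
    exact left_eq_add.mp h1
  map_add' f g := by
    refine GrLie.ext S fun k => ?_
    exact S.mapW_add hα k (f k) (g k)

theorem GrLie.map_apply (f : GrLie S) (k : ℕ) : GrLie.map S hα f k = S.mapW α k (f k) := rfl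

theorem GrLie.map_lie (f g : GrLie S) :
    GrLie.map S hα ⁅f, g⁆ = ⁅GrLie.map S hα f, GrLie.map S hα g⁆ := by
  refine GrLie.ext S fun k => ?_
  rw [GrLie.map_apply, GrLie.lie_apply, GrLie.lie_apply]
  have h1 : ∀ (s : Finset (ℕ × ℕ)) (F : ℕ × ℕ → S.W k),
      S.mapW α k (∑ x ∈ s, F x) = ∑ x ∈ s, S.mapW α k (F x) := by
    intro s F
    classical
    induction s using Finset.induction_on with
    | empty =>
      rw [Finset.sum_empty, Finset.sum_empty]
      have h1 := S.mapW_add hα k 0 0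
      rw [add_zero] at h1
      exact left_eq_add.mp h1
    | insert a s ha ih => rw [Finset.sum_insert ha, Finset.sum_insert ha, S.mapW_add hα, ih]
  rw [h1]
  apply Finset.sum_congr rfl
  intro ij hij
  rw [S.mapW_bk hα (Finset.HasAntidiagonal.mem_antidiagonal.mp hij)]
  rfl

theorem GrLie.map_iterate (m : ℕ) (hm : ∀ x, α^[m] x = x) (f : GrLie S) :
    (GrLie.map S hα)^[m] f = f := by
  have h1 : ∀ m : ℕ, ∀ (f : GrLie S) (k : ℕ), ((GrLie.map S hα)^[m] f) k =
      (S.mapW α k)^[m] (f k) := by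
    intro m
    induction m with
    | zero => intro f k; rfl
    | succ m ih => intro f k; rw [Function.iterate_succ_apply, ih]; rfl
  refine GrLie.ext S fun k => ?_
  rw [h1, ← S.cls_rep (f k), S.mapW_iterate hα k m (S.rep_mem _), hm]

omit hα

theorem GrLie.nsmul_apply (n : ℕ) (f : GrLie S) (k : ℕ) : (n • f) k = n • f k := rfl

theorem mem_lieLcs (k : ℕ) : ∀ x ∈ (lcsSeries G).H (k + 1),
    GrLie.single (lcsSeries G) (k + 1) ((lcsSeries G).cls (k + 1) x) ∈
      lieLcs (GrLie (lcsSeries G)) k := by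
  induction k with
  | zero => intro x _; trivial
  | succ k ih =>
    intro x hx
    change x ∈ Subgroup.closure {z | ∃ y ∈ (⊤ : Subgroup G).lowerCentralSeries k,
      ∃ g ∈ (⊤ : Subgroup G), ⁅y, g⁆ = z} at hx
    induction hx using Subgroup.closure_induction with
    | mem x hx =>
      obtain ⟨y, hy, g, hg, rfl⟩ := hx
      have hy' : y ∈ (lcsSeries G).H (k + 1) := hy
      have hg' : g ∈ (lcsSeries G).H 1 := hg
      rw [← (lcsSeries G).bk_cls (i := k + 1) (j := 1) rfl hy' hg',
        ← GrLie.lie_single (lcsSeries G) rfl]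
      exact AddSubgroup.subset_closure ⟨_, ih y hy', _, rfl⟩
    | one => rw [(lcsSeries G).cls_one, GrLie.single_zero]; exact zero_mem _
    | mul x y hx hy h1 h2 =>
      rw [(lcsSeries G).cls_mul (k := k + 1 + 1) hx hy, GrLie.single_add]
      exact add_mem h1 h2
    | inv x hx h1 =>
      rw [(lcsSeries G).cls_inv (k := k + 1 + 1) hx, GrLie.single_neg]
      exact neg_mem h1

/-- **Core theorem for groups.** Let `α` be an endomorphism of the group `G` with `α ^ p = 1` such
that on every lower central factor the fixed points of `α` are killed by `q`. Then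
`q p ^ (h + 1)` kills the `(h + 1)`-st lower central factor. -/
theorem group_core {p : ℕ} [Fact p.Prime] (h : ℕ)
    (hh : ∀ (V : Type u) [LieRing V] (F : ZMod p → AddSubgroup V), fbr F F ≤ F → F 0 = ⊥ →
      flcs F h = ⊥)
    (α : G →* G) (hαp : ∀ x, α^[p] x = x) (q : ℕ)
    (hq : ∀ k, ∀ x ∈ (⊤ : Subgroup G).lowerCentralSeries k,
      x⁻¹ * α x ∈ (⊤ : Subgroup G).lowerCentralSeries (k + 1) →
        x ^ q ∈ (⊤ : Subgroup G).lowerCentralSeries (k + 1)) :
    ∀ x ∈ (⊤ : Subgroup G).lowerCentralSeries h,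
      x ^ (q * p ^ (h + 1)) ∈ (⊤ : Subgroup G).lowerCentralSeries (h + 1) := by
  have hα : ∀ k, ∀ x ∈ (lcsSeries G).H k, α x ∈ (lcsSeries G).H k := by
    intro k x hx
    have h1 : α x ∈ ((⊤ : Subgroup G).lowerCentralSeries (k - 1)).map α := ⟨x, hx, rfl⟩
    rw [Subgroup.map_lowerCentralSeries] at h1
    exact Subgroup.lowerCentralSeries_mono _ le_top h1
  have hfix : ∀ f : GrLie (lcsSeries G), GrLie.map (lcsSeries G) hα f = f → q • f = 0 := by
    intro f hf
    refine GrLie.ext _ fun k => ?_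
    rw [GrLie.nsmul_apply, GrLie.zero_apply]
    have h1 : (lcsSeries G).mapW α k (f k) = f k := congrFun hf k
    set x := (lcsSeries G).rep (f k) with hx
    have hxm : x ∈ (lcsSeries G).H k := (lcsSeries G).rep_mem _
    have hxc : (lcsSeries G).cls k x = f k := (lcsSeries G).cls_rep _
    rw [← hxc, (lcsSeries G).mapW_cls hα hxm] at h1
    rw [← hxc, ← (lcsSeries G).cls_pow hxm]
    apply (lcsSeries G).cls_eq_zero
    rcases Nat.eq_zero_or_pos k with rfl | hk
    · rw [zero_add, (lcsSeries G).one]; trivial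
    · obtain ⟨m, rfl⟩ : ∃ m, k = m + 1 := ⟨k - 1, by omega⟩
      refine hq m x hxm ?_
      have h2 := ((lcsSeries G).cls_eq_iff (hα _ _ hxm) hxm).mp h1
      have h3 := (lcsSeries G).conj_mem h2 x⁻¹
      have h4 : x⁻¹ * (α x * x⁻¹) * x⁻¹⁻¹ = x⁻¹ * α x := by group
      rw [h4] at h3
      exact h3
  have key := core h hh (GrLie.map (lcsSeries G) hα) (GrLie.map_lie (lcsSeries G) hα)
    (GrLie.map_iterate (lcsSeries G) hα p hαp) q hfix
  intro x hx
  have hx' : x ∈ (lcsSeries G).H (h + 1) := hx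
  have h1 := key _ (mem_lieLcs h x hx')
  have h2 : (q * p ^ (h + 1)) • (lcsSeries G).cls (h + 1) x = 0 := by
    have h3 := congrArg (fun f : GrLie (lcsSeries G) => f (h + 1)) h1
    beta_reduce at h3
    rw [GrLie.nsmul_apply, GrLie.single_same, GrLie.zero_apply] at h3
    exact h3
  rw [← (lcsSeries G).cls_pow hx'] at h2
  exact (lcsSeries G).mem_of_cls_eq_zero (pow_mem hx' _) h2

end Cfsg.Agent.H449
end
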