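import Mathlib
import Cfsg.Agent.PLocal.Timmesfeld
import Cfsg.Agent.PLocal.ThompsonJA
import Mathlib.GroupTheory.Focal
import Cfsg.Agent.Lib.HallHigman
import Cfsg.Agent.LieClassical.SLTwoUnipotent
import Cfsg.Agent.ClassicalGeometry.PSL2Basic
set_option linter.all false

-- part: H449/PushUp
section
/-!
# Rank one pushing up (Baumann)

The structure `PU p S Q` collects what is used of a pair `Q = O_p(G) ≤ S ∈ Syl_p(G)` with `G / K ≃ PSL₂(q)` and `S` in a
unique maximal subgroup.  Main results: `PU.quadratic` (if `J(S) ≰ Q` and `Z(S)` is not normal then `S` acts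
quadratically on `V = ⟨Z(S)^G⟩`), `PU.card_eq`.
-/

set_option autoImplicit false
open Cfsg
open scoped commutatorElement
open Cfsg.Agent.PLocal.Timmesfeld Cfsg.Agent.PLocal.ThompsonJA

namespace Cfsg.Agent.H449.PushUp

variable {G : Type*} [Group G]

/-- Abstract rank one pushing up situation. -/
structure PU (p : ℕ) (S Q : Subgroup G) : Prop where
  nQ : Q.Normal
  cent : Subgroup.centralizer (Q : Set G) ≤ Q
  le : Q ≤ S
  ne : S ≠ Q
  pgrp : IsPGroup p S
  comm : ⁅S, S⁆ ≤ Q
  pow : ∀ s ∈ S, s ^ p ∈ Q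
  dich : ∀ N : Subgroup G, N.Normal → N ⊔ S = ⊤ ∨ N ⊓ S ≤ Q
  big : ∀ N : Subgroup G, N.Normal → S ≤ N → N = ⊤
  irr : ∀ R : Subgroup G, Q ≤ R → R ≤ S →
    (∀ x ∈ Subgroup.normalizer (S : Set G), ∀ r ∈ R, x * r * x⁻¹ ∈ R) → R = Q ∨ R = S
  gen : ∃ g : G, ∀ s ∈ S, s ∉ Q → ∀ T : Subgroup G, (∀ x ∈ S, g * x * g⁻¹ ∈ T) → s ∈ T → T = ⊤

/-- The centre of a subgroup, inside the big group. -/
def ZZ (S : Subgroup G) : Subgroup G := S ⊓ Subgroup.centralizer (S : Set G)

theorem mem_ZZ {S : Subgroup G} {x : G} : x ∈ ZZ S ↔ x ∈ S ∧ ∀ y ∈ S, y * x = x * y := by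
  rw [ZZ, Subgroup.mem_inf, Subgroup.mem_centralizer_iff]
  rfl

/-- The normal closure of the centre of `S`. -/
def VV (S : Subgroup G) : Subgroup G := Subgroup.normalClosure (ZZ S : Set G)

instance (S : Subgroup G) : (VV S).Normal := Subgroup.normalClosure_normal

theorem ZZ_le_VV (S : Subgroup G) : ZZ S ≤ VV S := Subgroup.subset_normalClosure

section

variable {p : ℕ} {S Q : Subgroup G}

theorem PU.ZZ_le (h : PU p S Q) : ZZ S ≤ Q ⊓ Subgroup.centralizer (Q : Set G) := by
  intro x hx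
  rw [mem_ZZ] at hx
  have h1 : x ∈ Subgroup.centralizer (Q : Set G) :=
    Subgroup.mem_centralizer_iff.mpr fun y hy => hx.2 y (h.le hy)
  exact ⟨h.cent h1, h1⟩

theorem PU.VV_le (h : PU p S Q) : VV S ≤ Q ⊓ Subgroup.centralizer (Q : Set G) := by
  haveI := h.nQ
  exact Subgroup.normalClosure_le_normal h.ZZ_le

theorem PU.VV_comm (h : PU p S Q) : ∀ x ∈ VV S, ∀ y ∈ VV S, x * y = y * x := fun x hx y hy =>
  Subgroup.mem_centralizer_iff.mp (h.VV_le hy).2 x (h.VV_le hx).1

theorem PU.Q_le_cent (h : PU p S Q) : Q ≤ Subgroup.centralizer (VV S : Set G) := fun x hx =>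
  Subgroup.mem_centralizer_iff.mpr fun v hv =>
    (Subgroup.mem_centralizer_iff.mp (h.VV_le hv).2 x hx).symm

/-- If `Z(S)` is not normal then `C_S(V) = Q`. -/
theorem PU.inf_cent (h : PU p S Q) (hZ : ¬ (ZZ S).Normal) :
    S ⊓ Subgroup.centralizer (VV S : Set G) = Q := by
  apply le_antisymm _ (le_inf h.le h.Q_le_cent)
  rcases h.dich (Subgroup.centralizer (VV S : Set G)) inferInstance with h1 | h1
  · exfalso
    apply hZ
    have h2 : Subgroup.normalizer (ZZ S : Set G) = ⊤ := by
      rw [eq_top_iff, ← h1]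
      apply sup_le
      · intro c hc
        rw [Subgroup.mem_normalizer_iff]
        intro z
        constructor
        · intro hz
          rw [← (Subgroup.mem_centralizer_iff.mp hc z (ZZ_le_VV S hz)), mul_inv_cancel_right]
          exact hz
        · intro hz
          have h3 := Subgroup.mem_centralizer_iff.mp hc _ (ZZ_le_VV S hz)
          have h4 : c * z * c⁻¹ = z := by
            have : c⁻¹ * (c * z * c⁻¹ * c) = z := by group
            rw [h3] at this
            rw [inv_mul_cancel_left] at this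
            exact this
          rwa [h4] at hz
      · intro s hs
        rw [Subgroup.mem_normalizer_iff]
        intro z
        constructor
        · intro hz
          have := (mem_ZZ.mp hz).2 s hs
          rw [this, mul_inv_cancel_right]
          exact hz
        · intro hz
          have h3 := (mem_ZZ.mp hz).2 s hs
          have h4 : s * z * s⁻¹ = z := by
            have : s⁻¹ * (s * (s * z * s⁻¹)) * s = s * z := by group
            rw [h3] at this
            have h5 : s⁻¹ * (s * z * s⁻¹ * s) * s = z * s := by group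
            rw [h5] at this
            rw [← this, mul_inv_cancel_right]
          rwa [h4] at hz
    exact Subgroup.normalizer_eq_top_iff.mp h2
  · rwa [inf_comm]

/-- If `Z(S)` is normal, it is central. -/
theorem PU.ZZ_le_center (h : PU p S Q) (hZ : (ZZ S).Normal) : ZZ S ≤ Subgroup.center G := by
  have h1 : Subgroup.centralizer (ZZ S : Set G) = ⊤ := by
    apply h.big _ inferInstance
    intro s hs
    exact Subgroup.mem_centralizer_iff.mpr fun z hz => ((mem_ZZ.mp hz).2 s hs).symm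
  intro z hz
  rw [Subgroup.mem_center_iff]
  intro g
  have h2 : g ∈ Subgroup.centralizer (ZZ S : Set G) := by rw [h1]; trivial
  exact (Subgroup.mem_centralizer_iff.mp h2 z hz).symm

end

theorem mem_sup_of_le_normalizer {N H : Subgroup G} (h : H ≤ Subgroup.normalizer (N : Set G)) {x : G}
    (hx : x ∈ N ⊔ H) : ∃ n ∈ N, ∃ k ∈ H, n * k = x := by
  have h1 : x ∈ ((N ⊔ H : Subgroup G) : Set G) := hx
  rw [Subgroup.coe_mul_of_right_le_normalizer_left N H h] at h1
  obtain ⟨n, hn, k, hk, e⟩ := Set.mem_mul.mp h1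
  exact ⟨n, hn, k, hk, e⟩

theorem le_normalizer_of_comm {V N H : Subgroup G} (hV : ∀ x ∈ V, ∀ y ∈ V, x * y = y * x)
    (hN : N ≤ V) (hH : H ≤ V) : H ≤ Subgroup.normalizer (N : Set G) := by
  intro x hx
  rw [Subgroup.mem_normalizer_iff]
  intro n
  constructor
  · intro hn
    rw [hV x (hH hx) n (hN hn), mul_inv_cancel_right]
    exact hn
  · intro hn
    have h1 : n = x⁻¹ * (x * n * x⁻¹) * x := by group
    rw [h1, hV x⁻¹ (inv_mem (hH hx)) _ (hN hn), inv_mul_cancel_right]
    exact hn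

section maximizers

/-- The subgroups of `V` where the measure `|C_S(W)| |W|` is largest. -/
def Mx (S V : Subgroup G) : Set (Subgroup G) :=
  {W | W ≤ V ∧ ∀ W' : Subgroup G, W' ≤ V → meas S W' ≤ meas S W}

theorem exists_Mx [Finite G] (S V : Subgroup G) : (Mx S V).Nonempty := by
  obtain ⟨W, hW, hm⟩ := Set.exists_max_image {W : Subgroup G | W ≤ V} (meas S) (Set.toFinite _)
    ⟨V, le_refl V⟩
  exact ⟨W, hW, hm⟩

theorem meas_pos [Finite G] (S W : Subgroup G) : 0 < meas S W :=
  Nat.mul_pos Nat.card_pos Nat.card_pos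

theorem Mx_sup_inf [Finite G] {S V W₁ W₂ : Subgroup G} (h₁ : W₁ ∈ Mx S V) (h₂ : W₂ ∈ Mx S V) :
    W₁ ⊔ W₂ ∈ Mx S V ∧ W₁ ⊓ W₂ ∈ Mx S V := by
  have h3 := meas_mul_meas_le S W₁ W₂
  have e : meas S W₂ = meas S W₁ := le_antisymm (h₁.2 _ h₂.1) (h₂.2 _ h₁.1)
  have h4 := h₁.2 (W₁ ⊔ W₂) (sup_le h₁.1 h₂.1)
  have h5 := h₁.2 (W₁ ⊓ W₂) (inf_le_left.trans h₁.1)
  have hp := meas_pos S W₁
  rw [e] at h3
  have h6 : meas S (W₁ ⊔ W₂) = meas S W₁ := by
    apply le_antisymm h4
    by_contra hc
    push Not at hc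
    have : meas S (W₁ ⊔ W₂) * meas S (W₁ ⊓ W₂) < meas S W₁ * meas S W₁ :=
      Nat.mul_lt_mul_of_lt_of_le hc h5 hp
    omega
  have h7 : meas S (W₁ ⊓ W₂) = meas S W₁ := by
    apply le_antisymm h5
    by_contra hc
    push Not at hc
    have : meas S (W₁ ⊔ W₂) * meas S (W₁ ⊓ W₂) < meas S W₁ * meas S W₁ :=
      Nat.mul_lt_mul_of_le_of_lt h4 hc hp
    omega
  exact ⟨⟨sup_le h₁.1 h₂.1, fun W' hW' => h6 ▸ h₁.2 W' hW'⟩,
    ⟨inf_le_left.trans h₁.1, fun W' hW' => h7 ▸ h₁.2 W' hW'⟩⟩

/-- There is a least maximizer. -/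
theorem exists_least [Finite G] (S V : Subgroup G) : ∃ W₀ ∈ Mx S V, ∀ W ∈ Mx S V, W₀ ≤ W := by
  obtain ⟨W₀, hW₀, hm⟩ := Set.exists_min_image (Mx S V) (fun W => Nat.card W) (Set.toFinite _)
    (exists_Mx S V)
  refine ⟨W₀, hW₀, fun W hW => ?_⟩
  have h1 := hm _ (Mx_sup_inf hW₀ hW).2
  have h2 : W₀ ⊓ W = W₀ := Subgroup.eq_of_le_of_card_ge inf_le_left h1
  exact inf_eq_left.mp h2

theorem exists_greatest [Finite G] (S V : Subgroup G) : ∃ W₀ ∈ Mx S V, ∀ W ∈ Mx S V, W ≤ W₀ := by
  obtain ⟨W₀, hW₀, hm⟩ := Set.exists_max_image (Mx S V) (fun W => Nat.card W) (Set.toFinite _)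
    (exists_Mx S V)
  refine ⟨W₀, hW₀, fun W hW => ?_⟩
  have h1 := hm _ (Mx_sup_inf hW₀ hW).1
  have h2 : W₀ = W₀ ⊔ W := Subgroup.eq_of_le_of_card_ge le_sup_left h1
  rw [h2]
  exact le_sup_right

theorem map_centralizer (f : G ≃* G) (W : Subgroup G) :
    (Subgroup.centralizer (W : Set G)).map f.toMonoidHom =
      Subgroup.centralizer ((W.map f.toMonoidHom : Subgroup G) : Set G) := by
  ext y
  constructor
  · rintro ⟨x, hx, rfl⟩
    rw [Subgroup.mem_centralizer_iff]
    rintro _ ⟨w, hw, rfl⟩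
    rw [← map_mul, ← map_mul, Subgroup.mem_centralizer_iff.mp hx w hw]
  · intro hy
    refine ⟨f.symm y, ?_, by simp⟩
    change f.symm y ∈ Subgroup.centralizer (W : Set G)
    rw [Subgroup.mem_centralizer_iff]
    intro w hw
    apply f.injective
    have := Subgroup.mem_centralizer_iff.mp hy (f w) ⟨w, hw, rfl⟩
    rw [map_mul, map_mul, f.apply_symm_apply]
    exact this

theorem meas_map (f : G ≃* G) (S W : Subgroup G) (hS : S.map f.toMonoidHom = S) :
    meas S (W.map f.toMonoidHom) = meas S W := by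
  rw [meas_def, meas_def, ← map_centralizer]
  conv_lhs => rw [← hS]
  rw [hS, Subgroup.card_map_of_injective f.injective]
  congr 1
  rw [show S ⊓ (Subgroup.centralizer (W : Set G)).map f.toMonoidHom =
    (S ⊓ Subgroup.centralizer (W : Set G)).map f.toMonoidHom by
      rw [Subgroup.map_inf _ _ _ f.injective, hS]]
  exact Subgroup.card_map_of_injective f.injective

theorem Mx_map (f : G ≃* G) {S V W : Subgroup G} (hS : S.map f.toMonoidHom = S)
    (hV : V.map f.toMonoidHom = V) (hW : W ∈ Mx S V) : W.map f.toMonoidHom ∈ Mx S V := by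
  refine ⟨?_, fun W' hW' => ?_⟩
  · rw [← hV]
    exact Subgroup.map_mono hW.1
  · rw [meas_map f S W hS]
    exact hW.2 W' hW'

theorem map_conj_eq {S : Subgroup G} {x : G} (hx : x ∈ Subgroup.normalizer (S : Set G)) :
    S.map (MulAut.conj x).toMonoidHom = S := by
  ext y
  constructor
  · rintro ⟨s, hs, rfl⟩
    exact (Subgroup.mem_normalizer_iff.mp hx s).mp hs
  · intro hy
    refine ⟨x⁻¹ * y * x, ?_, ?_⟩
    · have := (Subgroup.mem_normalizer_iff.mp (inv_mem hx) y).mp hy
      rwa [inv_inv] at this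
    · change x * (x⁻¹ * y * x) * x⁻¹ = y
      group

theorem conj_mem_inf_centralizer {S W : Subgroup G} {x : G} (hx : x ∈ Subgroup.normalizer (S : Set G))
    (hW : W.map (MulAut.conj x).toMonoidHom = W) {r : G}
    (hr : r ∈ S ⊓ Subgroup.centralizer (W : Set G)) :
    x * r * x⁻¹ ∈ S ⊓ Subgroup.centralizer (W : Set G) := by
  refine ⟨(Subgroup.mem_normalizer_iff.mp hx r).mp hr.1, ?_⟩
  have h1 : x * r * x⁻¹ ∈ (Subgroup.centralizer (W : Set G)).map (MulAut.conj x).toMonoidHom :=
    ⟨r, hr.2, rfl⟩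
  rw [map_centralizer, hW] at h1
  exact h1

end maximizers

section

variable [Finite G] {p : ℕ} [Fact p.Prime] {S Q : Subgroup G}

/-- The centralizer in `S` of a subgroup of `V` invariant under `N(S)` is `Q` or `S`. -/
theorem PU.cent_cases (h : PU p S Q) {W : Subgroup G} (hWV : W ≤ VV S)
    (hW : ∀ x ∈ Subgroup.normalizer (S : Set G), W.map (MulAut.conj x).toMonoidHom = W) :
    S ⊓ Subgroup.centralizer (W : Set G) = Q ∨ S ⊓ Subgroup.centralizer (W : Set G) = S := by
  apply h.irr _ _ inf_le_left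
  · intro x hx r hr
    exact conj_mem_inf_centralizer hx (hW x hx) hr
  · exact le_inf h.le (h.Q_le_cent.trans (Subgroup.centralizer_le hWV))

theorem map_VV (S : Subgroup G) (x : G) : (VV S).map (MulAut.conj x).toMonoidHom = VV S := by
  apply map_conj_eq
  rw [Subgroup.normalizer_eq_top_iff.mpr inferInstance]
  trivial

/-- `C_V(S)` is the least maximizer as soon as some proper subgroup of `V` is a maximizer or beats `V`. -/
theorem PU.least_eq (h : PU p S Q) (hZ : ¬ (ZZ S).Normal)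
    (hA : ∃ W : Subgroup G, W ≤ VV S ∧ W ≠ VV S ∧ meas S (VV S) ≤ meas S W) :
    VV S ⊓ Subgroup.centralizer (S : Set G) ∈ Mx S (VV S) := by
  obtain ⟨W₀, hW₀, hl⟩ := exists_least S (VV S)
  have hinv : ∀ x ∈ Subgroup.normalizer (S : Set G), W₀.map (MulAut.conj x).toMonoidHom = W₀ := by
    intro x hx
    have h1 := hl _ (Mx_map (MulAut.conj x) (map_conj_eq hx) (map_VV S x) hW₀)
    exact (Subgroup.eq_of_le_of_card_ge h1
      (Subgroup.card_map_of_injective (MulAut.conj x).injective).le).symm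
  rcases h.cent_cases hW₀.1 hinv with h1 | h1
  · exfalso
    have h2 : meas S W₀ = Nat.card Q * Nat.card W₀ := by rw [meas_def, h1]
    have h3 : meas S (VV S) = Nat.card Q * Nat.card (VV S) := by rw [meas_def, h.inf_cent hZ]
    have h4 := hW₀.2 (VV S) le_rfl
    rw [h2, h3] at h4
    have h5 : W₀ = VV S := Subgroup.eq_of_le_of_card_ge hW₀.1
      (Nat.le_of_mul_le_mul_left h4 Nat.card_pos)
    obtain ⟨W, hWV, hWne, hWm⟩ := hA
    have h6 : W ∈ Mx S (VV S) := ⟨hWV, fun W' hW' => (hW₀.2 W' hW').trans (h5 ▸ hWm)⟩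
    exact hWne (le_antisymm hWV (h5 ▸ hl W h6))
  · have h2 : W₀ ≤ VV S ⊓ Subgroup.centralizer (S : Set G) := by
      refine le_inf hW₀.1 ?_
      intro w hw
      rw [Subgroup.mem_centralizer_iff]
      intro s hs
      rw [← h1] at hs
      exact (Subgroup.mem_centralizer_iff.mp hs.2 w hw).symm
    refine ⟨inf_le_left, fun W' hW' => (hW₀.2 W' hW').trans ?_⟩
    rw [meas_def, meas_def]
    apply Nat.mul_le_mul
    · rw [h1]
      apply Subgroup.card_le_of_le
      refine le_inf le_rfl ?_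
      intro s hs
      rw [Subgroup.mem_centralizer_iff]
      intro w hw
      exact (Subgroup.mem_centralizer_iff.mp hw.2 s hs).symm
    · exact Subgroup.card_le_of_le h2

theorem meas_cent (S V : Subgroup G) :
    meas S (V ⊓ Subgroup.centralizer (S : Set G)) =
      Nat.card S * Nat.card (V ⊓ Subgroup.centralizer (S : Set G) : Subgroup G) := by
  rw [meas_def]
  congr 2
  rw [show S ⊓ Subgroup.centralizer ((V ⊓ Subgroup.centralizer (S : Set G) : Subgroup G) : Set G) = S
    from ?_]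
  apply inf_eq_left.mpr
  intro s hs
  rw [Subgroup.mem_centralizer_iff]
  intro w hw
  exact (Subgroup.mem_centralizer_iff.mp hw.2 s hs).symm

/-- **`S` acts quadratically on `V`.** -/
theorem PU.quadratic (h : PU p S Q) (hZ : ¬ (ZZ S).Normal)
    (hA : ∃ W : Subgroup G, W ≤ VV S ∧ W ≠ VV S ∧ meas S (VV S) ≤ meas S W) :
    ⁅VV S, S⁆ ≤ Subgroup.centralizer (S : Set G) := by
  have hC := h.least_eq hZ hA
  have hSV : S ≤ Subgroup.normalizer (VV S : Set G) := by
    rw [Subgroup.normalizer_eq_top_iff.mpr inferInstance]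
    exact le_top
  have hSS : ⁅S, S⁆ ≤ Subgroup.centralizer (VV S : Set G) := h.comm.trans h.Q_le_cent
  set C : Subgroup G := VV S ⊓ Subgroup.centralizer (S : Set G) with hCdef
  have hcomV : ⁅VV S, S⁆ ≤ VV S := Subgroup.commutator_le_left _ _
  have hV'V : ⁅VV S, S⁆ ⊔ C ≤ VV S := sup_le hcomV inf_le_left
  -- `V' = [V, S] C_V(S)` is a maximizer
  obtain ⟨W₁, hW₁, hg⟩ := exists_greatest S (⁅VV S, S⁆ ⊔ C)
  have hWu : ∀ u ∈ VV S, elemComm S u ⊔ C ≤ W₁ := by
    intro u hu
    apply hg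
    refine ⟨sup_le ?_ le_sup_right, ?_⟩
    · apply ((Subgroup.closure_le _).2 _ : elemComm S u ≤ _)
      rintro x ⟨s, hs, rfl⟩
      exact Subgroup.mem_sup_left (Subgroup.commutator_mem_commutator hu hs)
    · intro W' hW'
      have h1 := le_meas_elemComm h.VV_comm hSV hSS hu
      have h2 := hC.2 W' (hW'.trans hV'V)
      rw [hCdef, meas_cent] at h2
      exact h2.trans h1
  have hW₁eq : W₁ = ⁅VV S, S⁆ ⊔ C := by
    apply le_antisymm hW₁.1
    apply sup_le
    · rw [Subgroup.commutator_le]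
      intro u hu s hs
      apply hWu u hu
      exact Subgroup.mem_sup_left (Subgroup.subset_closure ⟨s, hs, rfl⟩)
    · exact le_sup_right.trans (hWu 1 (one_mem _))
  have hinv : ∀ x ∈ Subgroup.normalizer (S : Set G),
      (⁅VV S, S⁆ ⊔ C).map (MulAut.conj x).toMonoidHom = ⁅VV S, S⁆ ⊔ C := by
    intro x hx
    rw [Subgroup.map_sup, Subgroup.map_commutator, map_VV, map_conj_eq hx, hCdef,
      Subgroup.map_inf _ _ _ (MulAut.conj x).injective, map_VV, map_centralizer, map_conj_eq hx]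
  rcases h.cent_cases hV'V hinv with h1 | h1
  · exfalso
    have h2 : meas S (⁅VV S, S⁆ ⊔ C) = Nat.card Q * Nat.card (⁅VV S, S⁆ ⊔ C : Subgroup G) := by
      rw [meas_def, h1]
    have h3 : meas S (VV S) = Nat.card Q * Nat.card (VV S) := by rw [meas_def, h.inf_cent hZ]
    have h4 : meas S (VV S) ≤ meas S (⁅VV S, S⁆ ⊔ C) := by
      have h5 := hC.2 (VV S) le_rfl
      have h6 := hW₁.2 C le_sup_right
      rw [hW₁eq] at h6
      exact h5.trans h6
    rw [h2, h3] at h4
    have h5 : ⁅VV S, S⁆ ⊔ C = VV S := Subgroup.eq_of_le_of_card_ge hV'V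
      (Nat.le_of_mul_le_mul_left h4 Nat.card_pos)
    have hnil : Group.IsNilpotent S := h.pgrp.isNilpotent
    have h6 : ⁅VV S, S⁆ = ⊥ := by
      apply eq_bot_of_le_commutator hnil
      · exact hcomV.trans (h.VV_le.trans (inf_le_left.trans h.le))
      · rw [Subgroup.commutator_le (H₃ := ⁅⁅VV S, S⁆, S⁆)]
        intro v hv s hs
        rw [← h5] at hv
        obtain ⟨w, hw, c, hc, rfl⟩ := mem_sup_of_le_normalizer
          (le_normalizer_of_comm h.VV_comm hcomV inf_le_left) hv
        have e : ⁅w * c, s⁆ = ⁅w, s⁆ := by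
          have := Subgroup.mem_centralizer_iff.mp hc.2 s hs
          calc ⁅w * c, s⁆ = w * (c * s) * c⁻¹ * w⁻¹ * s⁻¹ := by
                rw [commutatorElement_def]; group
            _ = w * (s * c) * c⁻¹ * w⁻¹ * s⁻¹ := by rw [this]
            _ = _ := by rw [commutatorElement_def]; group
        rw [e]
        exact Subgroup.commutator_mem_commutator hw hs
    apply h.ne
    rw [← h.inf_cent hZ]
    symm
    apply inf_eq_left.mpr
    intro s hs
    rw [Subgroup.mem_centralizer_iff]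
    intro v hv
    have h7 : ⁅v, s⁆ ∈ (⊥ : Subgroup G) := h6 ▸ Subgroup.commutator_mem_commutator hv hs
    rw [Subgroup.mem_bot, commutatorElement_eq_one_iff_mul_comm] at h7
    exact h7
  · intro w hw
    rw [Subgroup.mem_centralizer_iff]
    intro s hs
    rw [← h1] at hs
    exact (Subgroup.mem_centralizer_iff.mp hs.2 w (Subgroup.mem_sup_left hw)).symm

/-- `|S| |C_V(S)| ≤ |Q| |V|`. -/
theorem PU.card_ge (h : PU p S Q) (hZ : ¬ (ZZ S).Normal)
    (hq : ⁅VV S, S⁆ ≤ Subgroup.centralizer (S : Set G)) :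
    Nat.card S * Nat.card (VV S ⊓ Subgroup.centralizer (S : Set G) : Subgroup G) ≤
      Nat.card Q * Nat.card (VV S) := by
  obtain ⟨g, hg⟩ := h.gen
  set C : Subgroup G := VV S ⊓ Subgroup.centralizer (S : Set G) with hCdef
  set C' : Subgroup G := C.map (MulAut.conj g).toMonoidHom with hC'def
  set Z : Subgroup G := VV S ⊓ Subgroup.center G with hZdef
  have hC'V : C' ≤ VV S := by
    rw [← map_VV S g]
    exact Subgroup.map_mono inf_le_left
  have hC'c : ∀ w ∈ C', ∀ x ∈ S, w * (g * x * g⁻¹) = (g * x * g⁻¹) * w := by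
    rintro _ ⟨c, hc, rfl⟩ x hx
    have h1 := Subgroup.mem_centralizer_iff.mp hc.2 x hx
    change g * c * g⁻¹ * (g * x * g⁻¹) = (g * x * g⁻¹) * (g * c * g⁻¹)
    calc g * c * g⁻¹ * (g * x * g⁻¹) = g * (c * x) * g⁻¹ := by group
      _ = g * (x * c) * g⁻¹ := by rw [h1]
      _ = _ := by group
  obtain ⟨s₀, hs₀, hs₀Q⟩ : ∃ s ∈ S, s ∉ Q := by
    by_contra hcon
    push Not at hcon
    exact h.ne (le_antisymm hcon h.le)
  have ha : C ⊓ C' ≤ Z := by
    rintro x ⟨hx, hx'⟩
    refine ⟨hx.1, ?_⟩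
    have h1 : Subgroup.centralizer ({x} : Set G) = ⊤ := by
      apply hg s₀ hs₀ hs₀Q
      · intro y hy
        rw [Subgroup.mem_centralizer_singleton_iff]
        exact (hC'c x hx' y hy).symm
      · rw [Subgroup.mem_centralizer_singleton_iff]
        exact Subgroup.mem_centralizer_iff.mp hx.2 s₀ hs₀
    refine Subgroup.mem_center_iff.mpr ?_
    intro y
    have h2 : y ∈ Subgroup.centralizer ({x} : Set G) := by rw [h1]; trivial
    exact Subgroup.mem_centralizer_singleton_iff.mp h2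
  have hb : Nat.card C * Nat.card C ≤ Nat.card Z * Nat.card (VV S) := by
    have h1 := card_mul_card_le (B₁ := C) (B₂ := C') (B₃ := VV S) inf_le_left hC'V
    have h2 : Nat.card C' = Nat.card C :=
      Subgroup.card_map_of_injective (MulAut.conj g).injective
    rw [h2] at h1
    exact h1.trans (Nat.mul_le_mul_right _ (Subgroup.card_le_of_le ha))
  obtain ⟨w, hw, hwc⟩ : ∃ w ∈ C', w ∉ Subgroup.center G := by
    by_contra hcon
    push Not at hcon
    apply hZ
    have h1 : ZZ S ≤ Subgroup.center G := by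
      intro z hz
      have h2 : z ∈ C := ⟨ZZ_le_VV S hz, hz.2⟩
      have h3 : g * z * g⁻¹ ∈ Subgroup.center G := hcon _ ⟨z, h2, rfl⟩
      have h4 := (inferInstance : (Subgroup.center G).Normal).conj_mem _ h3 g⁻¹
      have h5 : g⁻¹ * (g * z * g⁻¹) * g⁻¹⁻¹ = z := by group
      rwa [h5] at h4
    constructor
    intro z hz y
    have h2 := Subgroup.mem_center_iff.mp (h1 hz) y
    rw [h2, mul_inv_cancel_right]
    exact hz
  -- the subgroup of elements commuting with `w` modulo the centre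
  have hsub : ∀ s ∈ S, ⁅w, s⁆ ∈ Subgroup.center G → s ∈ Q := by
    intro s hs hsz
    by_contra hsQ
    let T : Subgroup G :=
      { carrier := {x | ⁅w, x⁆ ∈ Subgroup.center G}
        one_mem' := by
          change ⁅w, (1 : G)⁆ ∈ Subgroup.center G
          rw [commutatorElement_one_right]
          exact one_mem _
        mul_mem' := by
          intro x y hx hy
          change ⁅w, x * y⁆ ∈ Subgroup.center G
          have e : ⁅w, x * y⁆ = ⁅w, x⁆ * (x * ⁅w, y⁆ * x⁻¹) := by
            simp only [commutatorElement_def]; group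
          rw [e]
          exact mul_mem hx ((inferInstance : (Subgroup.center G).Normal).conj_mem _ hy x)
        inv_mem' := by
          intro x hx
          change ⁅w, x⁻¹⁆ ∈ Subgroup.center G
          have e : ⁅w, x⁻¹⁆ = x⁻¹ * ⁅w, x⁆⁻¹ * x⁻¹⁻¹ := by
            simp only [commutatorElement_def]; group
          rw [e]
          exact (inferInstance : (Subgroup.center G).Normal).conj_mem _ (inv_mem hx) x⁻¹ }
    have hT : T = ⊤ := by
      apply hg s hs hsQ T _ hsz
      intro x hx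
      change ⁅w, g * x * g⁻¹⁆ ∈ Subgroup.center G
      have h1 : ⁅w, g * x * g⁻¹⁆ = 1 := by
        rw [commutatorElement_eq_one_iff_mul_comm]
        exact hC'c w hw x hx
      rw [h1]
      exact one_mem _
    have hall : ∀ x : G, ⁅w, x⁆ ∈ Subgroup.center G := by
      intro x
      have : x ∈ T := by rw [hT]; trivial
      exact this
    have hN : (Subgroup.centralizer ({w} : Set G)).Normal := by
      constructor
      intro x hx y
      rw [Subgroup.mem_centralizer_singleton_iff] at hx ⊢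
      have hc := Subgroup.mem_center_iff.mp (hall y)
      -- `w y = c y w`
      have e1 : w * y = ⁅w, y⁆ * (y * w) := by rw [commutatorElement_def]; group
      have e2 : y⁻¹ * w = ⁅w, y⁆ * (w * y⁻¹) := by
        have h3 : y⁻¹ * (w * y) * y⁻¹ = y⁻¹ * w := by group
        have h4 : y⁻¹ * (⁅w, y⁆ * (y * w)) * y⁻¹ = (y⁻¹ * ⁅w, y⁆) * (y * w * y⁻¹) := by group
        rw [← h3, e1, h4, hc y⁻¹]
        group
      calc y * x * y⁻¹ * w = y * x * (y⁻¹ * w) := by group
        _ = y * x * (⁅w, y⁆ * (w * y⁻¹)) := by rw [e2]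
        _ = (y * x * ⁅w, y⁆) * (w * y⁻¹) := by group
        _ = (⁅w, y⁆ * (y * x)) * (w * y⁻¹) := by rw [hc (y * x)]
        _ = ⁅w, y⁆ * y * (x * w) * y⁻¹ := by group
        _ = ⁅w, y⁆ * y * (w * x) * y⁻¹ := by rw [hx]
        _ = (⁅w, y⁆ * (y * w)) * x * y⁻¹ := by group
        _ = (w * y) * x * y⁻¹ := by rw [← e1]
        _ = w * (y * x * y⁻¹) := by group
    have h2 : Subgroup.centralizer ({w} : Set G) = ⊤ := by
      apply h.big _ hN
      intro x hx
      have h3 : g * x * g⁻¹ ∈ Subgroup.centralizer ({w} : Set G) := by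
        rw [Subgroup.mem_centralizer_singleton_iff]
        exact (hC'c w hw x hx).symm
      have h4 := hN.conj_mem _ h3 g⁻¹
      have h5 : g⁻¹ * (g * x * g⁻¹) * g⁻¹⁻¹ = x := by group
      rwa [h5] at h4
    apply hwc
    rw [Subgroup.mem_center_iff]
    intro y
    have h6 : y ∈ Subgroup.centralizer ({w} : Set G) := by rw [h2]; trivial
    exact Subgroup.mem_centralizer_singleton_iff.mp h6
  have hwV : w ∈ VV S := hC'V hw
  have hSV : S ≤ Subgroup.normalizer (VV S : Set G) := by
    rw [Subgroup.normalizer_eq_top_iff.mpr inferInstance]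
    exact le_top
  have hmem : ∀ a : S, ⁅w, (a : G)⁆ ∈ C := fun a =>
    ⟨commutator_mem_of_mem hSV hwV a.2, hq (Subgroup.commutator_mem_commutator hwV a.2)⟩
  have hZC : Z ≤ C := by
    refine le_inf inf_le_left ?_
    intro z hz
    rw [Subgroup.mem_centralizer_iff]
    intro s _
    exact Subgroup.mem_center_iff.mp hz.2 s
  have e1 : Nat.card Q * Q.relIndex S = Nat.card S := by
    have h := Subgroup.relIndex_mul_relIndex (⊥ : Subgroup G) Q S bot_le h.le
    rw [Subgroup.relIndex_bot_left, Subgroup.relIndex_bot_left] at h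
    exact h
  have e2 : Nat.card Z * Z.relIndex C = Nat.card C := by
    have h := Subgroup.relIndex_mul_relIndex (⊥ : Subgroup G) Z C bot_le hZC
    rw [Subgroup.relIndex_bot_left, Subgroup.relIndex_bot_left] at h
    exact h
  have e3 : Q.relIndex S ≤ Z.relIndex C := by
    refine Nat.card_le_card_of_injective
      (fun q : S ⧸ Q.subgroupOf S => (QuotientGroup.mk ⟨⁅w, (q.out : G)⁆, hmem q.out⟩ : C ⧸ Z.subgroupOf C)) ?_
    intro q q' hqq
    have h1 : (⁅w, (q.out : G)⁆⁻¹ * ⁅w, (q'.out : G)⁆) ∈ Z := by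
      have := QuotientGroup.eq.1 hqq
      rw [Subgroup.mem_subgroupOf] at this
      exact this
    have h2 : ((q.out : G)⁻¹ * (q'.out : G)) ∈ Q := by
      apply hsub _ (mul_mem (inv_mem q.out.2) q'.out.2)
      have h3 : ⁅w, (q.out : G)⁻¹ * (q'.out : G)⁆ =
          (q.out : G)⁻¹ * (⁅w, (q.out : G)⁆⁻¹ * ⁅w, (q'.out : G)⁆) * (q.out : G)⁻¹⁻¹ := by
        simp only [commutatorElement_def]
        group
      rw [h3]
      exact (inferInstance : (Subgroup.center G).Normal).conj_mem _ h1.2 _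
    have h4 : (QuotientGroup.mk q.out : S ⧸ Q.subgroupOf S) = QuotientGroup.mk q'.out := by
      refine QuotientGroup.eq.2 ?_
      rw [Subgroup.mem_subgroupOf]
      exact h2
    rwa [QuotientGroup.out_eq', QuotientGroup.out_eq'] at h4
  have hZpos : 0 < Nat.card Z := Nat.card_pos
  have h5 : Nat.card S * Nat.card Z ≤ Nat.card Q * Nat.card C := by
    rw [← e1, ← e2]
    calc Nat.card Q * Q.relIndex S * Nat.card Z = Nat.card Q * (Nat.card Z * Q.relIndex S) := by ring
      _ ≤ Nat.card Q * (Nat.card Z * Z.relIndex C) := by gcongr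
  have h6 : Nat.card S * Nat.card C * Nat.card Z ≤ Nat.card Q * Nat.card (VV S) * Nat.card Z := by
    calc Nat.card S * Nat.card C * Nat.card Z = (Nat.card S * Nat.card Z) * Nat.card C := by ring
      _ ≤ (Nat.card Q * Nat.card C) * Nat.card C := Nat.mul_le_mul_right _ h5
      _ = Nat.card Q * (Nat.card C * Nat.card C) := by ring
      _ ≤ Nat.card Q * (Nat.card Z * Nat.card (VV S)) := Nat.mul_le_mul_left _ hb
      _ = _ := by ring
  exact Nat.le_of_mul_le_mul_right h6 hZpos

end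

end Cfsg.Agent.H449.PushUp
end

-- part: H449/PushUpB
section
/-!
# Rank one pushing up (Baumann), second part

`PU.baumann`: if `Z(S)` is not normal and `J(S) ≰ Q`, then `B = C_S(Z(J(S)))` is the intersection of its normal closure with
`S`, and the normal closure of `J(S)` centralizes `[Z(J(S)), Q]`.
-/

set_option autoImplicit false
open Cfsg
open scoped commutatorElement
open Cfsg.Agent.PLocal.Timmesfeld Cfsg.Agent.PLocal.ThompsonJA

namespace Cfsg.Agent.H449.PushUp

/-! ### Transfer -/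

section transfer

variable {X : Type*} [Group X] [Finite X] {p : ℕ} [Fact p.Prime]

theorem sylow_le_of_normalClosure_comm (T : Sylow p X) (hT : ∀ x ∈ T, ∀ y ∈ T, x * y = y * x)
    (B Z : Subgroup X) (hBT : B ≤ T)
    (hN : ∀ n ∈ Subgroup.normalizer ((T : Subgroup X) : Set X), ∀ b ∈ B, n * b * n⁻¹ ∈ B)
    (hZ : Z ≤ Subgroup.center X) (hTBZ : (T : Subgroup X) ≤ B ⊔ Z)
    (hB : Subgroup.normalClosure (B : Set X) = ⊤) : (T : Subgroup X) ≤ B := by
  have : IsMulCommutative T := ⟨⟨fun x y => Subtype.ext (hT x x.2 y y.2)⟩⟩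
  have hcenN : Z.Normal := by
    constructor
    intro z hz g
    rw [Subgroup.mem_center_iff.mp (hZ hz) g, mul_inv_cancel_right]
    exact hz
  -- the focal subgroup lies in `B`
  have hfoc : (T : Subgroup X).focalSubgroup ≤ B := by
    rw [Subgroup.focalSubgroup_def, Subgroup.closure_le]
    rintro g ⟨hgT, x, hx, u, rfl⟩
    have hux : (u⁻¹)⁻¹ * x⁻¹ * u⁻¹ ∈ T := by
      have : (u⁻¹)⁻¹ * x⁻¹ * u⁻¹ = x⁻¹ * ⁅x, u⁆ := by
        rw [commutatorElement_def]; group
      rw [this]
      exact T.mul_mem (T.inv_mem hx) hgT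
    obtain ⟨n, hn, hnx⟩ := T.conj_eq_normalizer_conj_of_mem x⁻¹ u⁻¹ (T.inv_mem hx) hux
    have e1 : ⁅x, u⁆ = ⁅x, n⁻¹⁆ := by
      rw [inv_inv] at hnx
      rw [commutatorElement_def, commutatorElement_def, inv_inv, mul_assoc x, mul_assoc x, hnx,
        mul_assoc x, mul_assoc x]
    obtain ⟨b, hb, z, hz, rfl⟩ := Subgroup.mem_sup_of_normal_right.mp (hTBZ hx)
    have e2 : ⁅b * z, n⁻¹⁆ = b * (n⁻¹ * b⁻¹ * n⁻¹⁻¹) := by
      have := Subgroup.mem_center_iff.mp (hZ hz) n⁻¹
      calc ⁅b * z, n⁻¹⁆ = b * (z * n⁻¹) * z⁻¹ * b⁻¹ * n⁻¹⁻¹ := by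
            rw [commutatorElement_def]; group
        _ = b * (n⁻¹ * z) * z⁻¹ * b⁻¹ * n⁻¹⁻¹ := by rw [this]
        _ = _ := by group
    rw [SetLike.mem_coe, e1, e2]
    exact mul_mem hb (hN _ (inv_mem hn) _ (inv_mem hb))
  set K : Subgroup X := (T : Subgroup X).transferFocal.ker with hK
  have hKT : K ⊓ T ≤ B := by
    rw [hK, Subgroup.ker_transferFocal_inf_eq_focalSubgroup T]
    exact hfoc
  have hq : ∀ a b : (T : Subgroup X) ⧸ (T : Subgroup X).focalSubgroupOf, a * b = b * a := by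
    intro a b
    obtain ⟨a, rfl⟩ := QuotientGroup.mk_surjective a
    obtain ⟨b, rfl⟩ := QuotientGroup.mk_surjective b
    rw [← QuotientGroup.mk_mul, ← QuotientGroup.mk_mul]
    congr 1
    exact Subtype.ext (hT a a.2 b b.2)
  have hcomm : ∀ x y : X, ⁅x, y⁆ ∈ K := by
    intro x y
    rw [hK, MonoidHom.mem_ker, map_commutatorElement]
    rw [commutatorElement_eq_one_iff_mul_comm]
    exact hq _ _
  have hBK : (B ⊔ K).Normal := by
    constructor
    intro x hx g
    have e : g * x * g⁻¹ = ⁅g, x⁆ * x := by rw [commutatorElement_def]; group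
    rw [e]
    exact mul_mem (Subgroup.mem_sup_right (hcomm g x)) hx
  have htop : B ⊔ K = ⊤ := by
    rw [eq_top_iff, ← hB]
    apply Subgroup.normalClosure_le_normal
    exact (le_sup_left : B ≤ B ⊔ K)
  intro t ht
  have h1 : t ∈ B ⊔ K := by rw [htop]; trivial
  obtain ⟨b, hb, k, hk, rfl⟩ := Subgroup.mem_sup_of_normal_right.mp h1
  refine mul_mem hb (hKT ⟨hk, ?_⟩)
  have : k = b⁻¹ * (b * k) := by group
  rw [this]
  exact T.mul_mem (T.inv_mem (hBT hb)) ht

/-- `T` Sylow, `C ≤ B ≤ T`, `C` normal, `[T, T] ≤ C`, `B` is normalized by `N(T)`, `T ≤ B Z`, `[Z, X] ≤ C` and `B` is not in a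
proper normal subgroup: then `T = B`. -/
theorem sylow_le_of_normalClosure (T : Sylow p X) (C B Z : Subgroup X) [C.Normal]
    (hT : ⁅(T : Subgroup X), (T : Subgroup X)⁆ ≤ C) (hCB : C ≤ B) (hBT : B ≤ T)
    (hN : ∀ n ∈ Subgroup.normalizer ((T : Subgroup X) : Set X), ∀ b ∈ B, n * b * n⁻¹ ∈ B)
    (hZ : ∀ z ∈ Z, ∀ x : X, ⁅z, x⁆ ∈ C) (hTBZ : (T : Subgroup X) ≤ B ⊔ Z)
    (hB : Subgroup.normalClosure (B : Set X) = ⊤) : (T : Subgroup X) ≤ B := by
  set π := QuotientGroup.mk' C with hπ
  have hsurj : Function.Surjective π := QuotientGroup.mk'_surjective C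
  have hker : ∀ x : X, π x = 1 ↔ x ∈ C := fun x => QuotientGroup.eq_one_iff x
  have hcoe : ((T.mapSurjective hsurj : Sylow p (X ⧸ C)) : Subgroup (X ⧸ C)) =
      (T : Subgroup X).map π := Sylow.coe_mapSurjective hsurj T
  have hCT : C ≤ (T : Subgroup X) := hCB.trans hBT
  have memT : ∀ x : X, π x ∈ (T : Subgroup X).map π ↔ x ∈ (T : Subgroup X) := by
    intro x
    constructor
    · rintro ⟨t, ht, e⟩
      have h1 : π (t⁻¹ * x) = 1 := by rw [map_mul, map_inv, e, inv_mul_cancel]
      have h2 : x = t * (t⁻¹ * x) := by group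
      rw [h2]
      exact mul_mem ht (hCT ((hker _).mp h1))
    · intro hx
      exact ⟨x, hx, rfl⟩
  have h1 := sylow_le_of_normalClosure_comm (T.mapSurjective hsurj) ?_ (B.map π) (Z.map π) ?_ ?_ ?_ ?_ ?_
  · intro t ht
    have h2 : π t ∈ B.map π := by
      apply h1
      rw [hcoe]
      exact ⟨t, ht, rfl⟩
    obtain ⟨b, hb, e⟩ := h2
    have h3 : π (b⁻¹ * t) = 1 := by rw [map_mul, map_inv, e, inv_mul_cancel]
    have h4 : t = b * (b⁻¹ * t) := by group
    rw [h4]
    exact mul_mem hb (hCB ((hker _).mp h3))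
  · intro x hx y hy
    change x ∈ ((T.mapSurjective hsurj : Sylow p (X ⧸ C)) : Subgroup (X ⧸ C)) at hx
    change y ∈ ((T.mapSurjective hsurj : Sylow p (X ⧸ C)) : Subgroup (X ⧸ C)) at hy
    rw [hcoe] at hx hy
    obtain ⟨s, hs, rfl⟩ := hx
    obtain ⟨t, ht, rfl⟩ := hy
    rw [← commutatorElement_eq_one_iff_mul_comm, ← map_commutatorElement, hker]
    exact hT (Subgroup.commutator_mem_commutator hs ht)
  · rw [hcoe]
    exact Subgroup.map_mono hBT
  · intro n hn b hb
    obtain ⟨n, rfl⟩ := hsurj n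
    obtain ⟨b, hb, rfl⟩ := hb
    rw [← map_inv, ← map_mul, ← map_mul]
    refine ⟨_, hN n ?_ b hb, rfl⟩
    have hn' : π n ∈ Subgroup.normalizer
        (((T.mapSurjective hsurj : Sylow p (X ⧸ C)) : Subgroup (X ⧸ C)) : Set (X ⧸ C)) := hn
    rw [hcoe] at hn'
    rw [Subgroup.mem_normalizer_iff] at hn' ⊢
    intro x
    have h2 := hn' (π x)
    rw [← map_inv, ← map_mul, ← map_mul, memT, memT] at h2
    exact h2
  · rintro _ ⟨z, hz, rfl⟩
    rw [Subgroup.mem_center_iff]
    intro x
    obtain ⟨x, rfl⟩ := hsurj x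
    symm
    rw [← commutatorElement_eq_one_iff_mul_comm, ← map_commutatorElement, hker]
    exact hZ z hz x
  · rw [hcoe, ← Subgroup.map_sup]
    exact Subgroup.map_mono hTBZ
  · rw [eq_top_iff]
    intro x _
    obtain ⟨x, rfl⟩ := hsurj x
    have h2 : x ∈ Subgroup.normalClosure (B : Set X) := by rw [hB]; trivial
    have h3 : Subgroup.normalClosure (B : Set X) ≤
        (Subgroup.normalClosure ((B.map π : Subgroup (X ⧸ C)) : Set (X ⧸ C))).comap π := by
      apply Subgroup.normalClosure_le_normal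
      intro b hb
      exact Subgroup.subset_normalClosure ⟨b, hb, rfl⟩
    exact h3 h2

theorem exists_sylow_subgroupOf (S : Sylow p X) (N : Subgroup X) [N.Normal] :
    ∃ T : Sylow p N, (T : Subgroup N) = (S : Subgroup X).subgroupOf N := by
  have h1 : IsPGroup p ((S : Subgroup X).subgroupOf N) :=
    S.2.comap_of_injective N.subtype N.subtype_injective
  obtain ⟨T, hT⟩ := h1.exists_le_sylow
  refine ⟨T, ?_⟩
  symm
  apply Subgroup.eq_of_le_of_card_ge hT
  have h2 : IsPGroup p ((T : Subgroup N).map N.subtype) := T.2.map _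
  obtain ⟨S', hS'⟩ := h2.exists_le_sylow
  obtain ⟨g, hg⟩ := MulAction.exists_smul_eq X S S'
  have h3 : ((T : Subgroup N).map N.subtype).map (MulAut.conj g⁻¹).toMonoidHom ≤ (S : Subgroup X) ⊓ N := by
    rintro _ ⟨x, hx, rfl⟩
    constructor
    · have h4 : x ∈ (S' : Subgroup X) := hS' hx
      rw [← hg, Sylow.coe_subgroup_smul, Subgroup.mem_pointwise_smul_iff_inv_smul_mem] at h4
      have h5 : (MulAut.conj g)⁻¹ • x = (MulAut.conj g⁻¹).toMonoidHom x := by
        rw [← map_inv]
        rfl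
      rw [h5] at h4
      exact h4
    · obtain ⟨y, _, rfl⟩ := hx
      exact (inferInstance : N.Normal).conj_mem _ y.2 g⁻¹
  have h4 := Subgroup.card_le_of_le h3
  rw [Subgroup.card_map_of_injective (MulAut.conj g⁻¹).injective,
    Subgroup.card_map_of_injective N.subtype_injective] at h4
  have h5 : Nat.card ((S : Subgroup X).subgroupOf N) = Nat.card ((S : Subgroup X) ⊓ N : Subgroup X) := by
    rw [← Subgroup.subgroupOf_map_subtype, Subgroup.card_map_of_injective N.subtype_injective]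
  rw [h5]
  exact h4

end transfer

/-! ### The Thompson subgroup -/

section main

variable {G : Type*} [Group G] [Finite G] {p : ℕ} [Fact p.Prime] {S Q : Subgroup G}

theorem PU.maxAb_meas (h : PU p S Q) (hZ : ¬ (ZZ S).Normal) {A : Subgroup G}
    (hA : A ∈ maxAbelianIn S) :
    meas S (VV S) ≤ Nat.card (A ⊔ Q : Subgroup G) * Nat.card (VV S ⊓ A : Subgroup G) ∧
    Nat.card (A ⊔ Q : Subgroup G) * Nat.card (VV S ⊓ A : Subgroup G) ≤
      meas S (VV S ⊓ Subgroup.centralizer (A : Set G)) := by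
  have hAc := (PLocal.ThompsonJA.isMulCommutative_iff A).mp hA.2.1
  constructor
  · rw [meas_def, h.inf_cent hZ]
    -- `(A ⊓ Q) ⊔ V` is abelian
    have hc1 : (A ⊓ Q ⊔ VV S : Subgroup G) ≤ S :=
      sup_le (inf_le_right.trans h.le) (h.VV_le.trans (inf_le_left.trans h.le))
    have hc2 : IsMulCommutative (A ⊓ Q ⊔ VV S : Subgroup G) := by
      rw [PLocal.ThompsonJA.isMulCommutative_iff]
      intro x hx y hy
      obtain ⟨a, ha, v, hv, rfl⟩ := Subgroup.mem_sup_of_normal_right.mp hx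
      obtain ⟨b, hb, w, hw, rfl⟩ := Subgroup.mem_sup_of_normal_right.mp hy
      have e1 := hAc a ha.1 b hb.1
      have e2 := h.VV_comm v hv w hw
      have e3 : a * w = w * a := (Subgroup.mem_centralizer_iff.mp (h.VV_le hw).2 a ha.2)
      have e4 : b * v = v * b := (Subgroup.mem_centralizer_iff.mp (h.VV_le hv).2 b hb.2)
      calc a * v * (b * w) = a * (v * b) * w := by group
        _ = a * (b * v) * w := by rw [e4]
        _ = (a * b) * (v * w) := by group
        _ = (b * a) * (w * v) := by rw [e1, e2]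
        _ = b * (a * w) * v := by group
        _ = b * (w * a) * v := by rw [e3]
        _ = _ := by group
    have h1 := hA.2.2 _ hc1 hc2
    have h2 := card_mul_card_le (B₁ := VV S) (B₂ := A ⊓ Q) (B₃ := A ⊓ Q ⊔ VV S) le_sup_right le_sup_left
    have h3 := card_mul_card_le (B₁ := A) (B₂ := Q) (B₃ := A ⊔ Q) le_sup_left le_sup_right
    have h4 : Nat.card (VV S ⊓ (A ⊓ Q) : Subgroup G) ≤ Nat.card (VV S ⊓ A : Subgroup G) :=
      Subgroup.card_le_of_le (inf_le_inf_left _ inf_le_left)
    have hpos : 0 < Nat.card (A ⊓ Q : Subgroup G) := Nat.card_pos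
    have h5 : Nat.card Q * Nat.card (VV S) * Nat.card (A ⊓ Q : Subgroup G) ≤
        Nat.card (A ⊔ Q : Subgroup G) * Nat.card (VV S ⊓ A : Subgroup G) *
          Nat.card (A ⊓ Q : Subgroup G) := by
      calc Nat.card Q * Nat.card (VV S) * Nat.card (A ⊓ Q : Subgroup G)
          = Nat.card Q * (Nat.card (VV S) * Nat.card (A ⊓ Q : Subgroup G)) := by ring
        _ ≤ Nat.card Q * (Nat.card (VV S ⊓ (A ⊓ Q) : Subgroup G) *
            Nat.card (A ⊓ Q ⊔ VV S : Subgroup G)) := Nat.mul_le_mul_left _ h2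
        _ ≤ Nat.card Q * (Nat.card (VV S ⊓ A : Subgroup G) * Nat.card A) :=
            Nat.mul_le_mul_left _ (Nat.mul_le_mul h4 h1)
        _ = (Nat.card A * Nat.card Q) * Nat.card (VV S ⊓ A : Subgroup G) := by ring
        _ ≤ (Nat.card (A ⊓ Q : Subgroup G) * Nat.card (A ⊔ Q : Subgroup G)) *
            Nat.card (VV S ⊓ A : Subgroup G) := Nat.mul_le_mul_right _ h3
        _ = _ := by ring
    exact Nat.le_of_mul_le_mul_right h5 hpos
  · rw [meas_def]
    apply Nat.mul_le_mul
    · apply Subgroup.card_le_of_le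
      refine sup_le (le_inf hA.1 ?_) (le_inf h.le (h.Q_le_cent.trans (Subgroup.centralizer_le ?_)))
      · intro a ha
        rw [Subgroup.mem_centralizer_iff]
        intro w hw
        exact (Subgroup.mem_centralizer_iff.mp hw.2 a ha).symm
      · exact inf_le_left
    · apply Subgroup.card_le_of_le
      apply inf_le_inf_left
      intro a ha
      rw [Subgroup.mem_centralizer_iff]
      intro b hb
      exact hAc b hb a ha

/-- `[Y, N] ≤ V` extends to the normal closure of `N`. -/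
theorem commutator_normalClosure_le {Y V J : Subgroup G} [Y.Normal] [V.Normal] (h : ⁅Y, J⁆ ≤ V) :
    ⁅Y, Subgroup.normalClosure (J : Set G)⁆ ≤ V := by
  have hn : (Y.map (QuotientGroup.mk' V)).Normal :=
    (inferInstance : Y.Normal).map _ (QuotientGroup.mk'_surjective V)
  have key : ∀ x y : G, ⁅x, y⁆ ∈ V ↔ (QuotientGroup.mk' V x) * (QuotientGroup.mk' V y) =
      (QuotientGroup.mk' V y) * (QuotientGroup.mk' V x) := by
    intro x y
    rw [← commutatorElement_eq_one_iff_mul_comm, ← map_commutatorElement]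
    exact (QuotientGroup.eq_one_iff _).symm
  have h1 : Subgroup.normalClosure (J : Set G) ≤
      (Subgroup.centralizer ((Y.map (QuotientGroup.mk' V) : Subgroup (G ⧸ V)) : Set (G ⧸ V))).comap
        (QuotientGroup.mk' V) := by
    apply Subgroup.normalClosure_le_normal
    intro j hj
    change QuotientGroup.mk' V j ∈ Subgroup.centralizer _
    rw [Subgroup.mem_centralizer_iff]
    rintro _ ⟨y, hy, rfl⟩
    exact (key y j).mp (h (Subgroup.commutator_mem_commutator hy hj))
  rw [Subgroup.commutator_le]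
  intro y hy x hx
  rw [key]
  exact Subgroup.mem_centralizer_iff.mp (h1 hx) _ ⟨y, hy, rfl⟩

/-- The Thompson factorization part: `(A ⊓ Q) V` is again an abelian subgroup of largest order. -/
theorem PU.maxAb_inf_sup (h : PU p S Q) (hZ : ¬ (ZZ S).Normal)
    (hJ : ¬ thompsonSubgroupAOf S ≤ Q) {A : Subgroup G} (hA : A ∈ maxAbelianIn S) :
    A ⊓ Q ⊔ VV S ∈ maxAbelianIn S := by
  have hAc := (PLocal.ThompsonJA.isMulCommutative_iff A).mp hA.2.1
  have hex : ∃ W : Subgroup G, W ≤ VV S ∧ W ≠ VV S ∧ meas S (VV S) ≤ meas S W := by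
    obtain ⟨A₀, hA₀, hA₀Q⟩ : ∃ A₀ ∈ maxAbelianIn S, ¬ A₀ ≤ Q := by
      by_contra hcon
      push Not at hcon
      apply hJ
      rw [thompsonSubgroupAOf_eq_sSup]
      exact sSup_le hcon
    obtain ⟨m1, m2⟩ := h.maxAb_meas hZ hA₀
    refine ⟨_, inf_le_left, ?_, m1.trans m2⟩
    intro heq
    apply hA₀Q
    rw [← h.inf_cent hZ]
    refine le_inf hA₀.1 ?_
    rw [inf_eq_left] at heq
    intro a ha
    rw [Subgroup.mem_centralizer_iff]
    intro v hv
    exact (Subgroup.mem_centralizer_iff.mp (heq hv) a ha).symm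
  have hmx := h.least_eq hZ hex
  have hge := h.card_ge hZ (h.quadratic hZ hex)
  obtain ⟨_, m2⟩ := h.maxAb_meas hZ hA
  have m3 := hmx.2 (VV S ⊓ Subgroup.centralizer (A : Set G)) inf_le_left
  rw [meas_cent] at m3
  have m4 : Nat.card (A ⊔ Q : Subgroup G) * Nat.card (VV S ⊓ A : Subgroup G) ≤
      Nat.card Q * Nat.card (VV S) := m2.trans (m3.trans hge)
  have h3 := card_mul_card_le (B₁ := A) (B₂ := Q) (B₃ := A ⊔ Q) le_sup_left le_sup_right
  have h2 := card_mul_card_le (B₁ := VV S) (B₂ := A ⊓ Q) (B₃ := A ⊓ Q ⊔ VV S) le_sup_right le_sup_left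
  have h4 : Nat.card (VV S ⊓ (A ⊓ Q) : Subgroup G) ≤ Nat.card (VV S ⊓ A : Subgroup G) :=
    Subgroup.card_le_of_le (inf_le_inf_left _ inf_le_left)
  have hpQ : 0 < Nat.card Q := Nat.card_pos
  have hpV : 0 < Nat.card (VV S ⊓ A : Subgroup G) := Nat.card_pos
  have h5 : Nat.card A ≤ Nat.card (A ⊓ Q ⊔ VV S : Subgroup G) := by
    have h6 : Nat.card A * (Nat.card Q * Nat.card (VV S ⊓ A : Subgroup G)) ≤
        Nat.card (A ⊓ Q ⊔ VV S : Subgroup G) * (Nat.card Q * Nat.card (VV S ⊓ A : Subgroup G)) := by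
      calc Nat.card A * (Nat.card Q * Nat.card (VV S ⊓ A : Subgroup G))
          = (Nat.card A * Nat.card Q) * Nat.card (VV S ⊓ A : Subgroup G) := by ring
        _ ≤ (Nat.card (A ⊓ Q : Subgroup G) * Nat.card (A ⊔ Q : Subgroup G)) *
            Nat.card (VV S ⊓ A : Subgroup G) := Nat.mul_le_mul_right _ h3
        _ = Nat.card (A ⊓ Q : Subgroup G) * (Nat.card (A ⊔ Q : Subgroup G) *
            Nat.card (VV S ⊓ A : Subgroup G)) := by ring
        _ ≤ Nat.card (A ⊓ Q : Subgroup G) * (Nat.card Q * Nat.card (VV S)) :=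
            Nat.mul_le_mul_left _ m4
        _ = (Nat.card (VV S) * Nat.card (A ⊓ Q : Subgroup G)) * Nat.card Q := by ring
        _ ≤ (Nat.card (VV S ⊓ (A ⊓ Q) : Subgroup G) * Nat.card (A ⊓ Q ⊔ VV S : Subgroup G)) *
            Nat.card Q := Nat.mul_le_mul_right _ h2
        _ ≤ (Nat.card (VV S ⊓ A : Subgroup G) * Nat.card (A ⊓ Q ⊔ VV S : Subgroup G)) *
            Nat.card Q := by gcongr
        _ = _ := by ring
    exact Nat.le_of_mul_le_mul_right h6 (Nat.mul_pos hpQ hpV)
  refine ⟨sup_le (inf_le_right.trans h.le) (h.VV_le.trans (inf_le_left.trans h.le)), ?_,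
    fun B hB hBc => (hA.2.2 B hB hBc).trans h5⟩
  rw [PLocal.ThompsonJA.isMulCommutative_iff]
  intro x hx y hy
  obtain ⟨a, ha, v, hv, rfl⟩ := Subgroup.mem_sup_of_normal_right.mp hx
  obtain ⟨b, hb, w, hw, rfl⟩ := Subgroup.mem_sup_of_normal_right.mp hy
  have e1 := hAc a ha.1 b hb.1
  have e2 := h.VV_comm v hv w hw
  have e3 : a * w = w * a := (Subgroup.mem_centralizer_iff.mp (h.VV_le hw).2 a ha.2)
  have e4 : b * v = v * b := (Subgroup.mem_centralizer_iff.mp (h.VV_le hv).2 b hb.2)
  calc a * v * (b * w) = a * (v * b) * w := by group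
    _ = a * (b * v) * w := by rw [e4]
    _ = (a * b) * (v * w) := by group
    _ = (b * a) * (w * v) := by rw [e1, e2]
    _ = b * (a * w) * v := by group
    _ = b * (w * a) * v := by rw [e3]
    _ = _ := by group

theorem PU.quadratic' (h : PU p S Q) (hZ : ¬ (ZZ S).Normal)
    (hJ : ¬ thompsonSubgroupAOf S ≤ Q) : ⁅VV S, S⁆ ≤ Subgroup.centralizer (S : Set G) := by
  apply h.quadratic hZ
  obtain ⟨A₀, hA₀, hA₀Q⟩ : ∃ A₀ ∈ maxAbelianIn S, ¬ A₀ ≤ Q := by
    by_contra hcon
    push Not at hcon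
    apply hJ
    rw [thompsonSubgroupAOf_eq_sSup]
    exact sSup_le hcon
  obtain ⟨m1, m2⟩ := h.maxAb_meas hZ hA₀
  refine ⟨_, inf_le_left, ?_, m1.trans m2⟩
  intro heq
  apply hA₀Q
  rw [← h.inf_cent hZ]
  refine le_inf hA₀.1 ?_
  rw [inf_eq_left] at heq
  intro a ha
  rw [Subgroup.mem_centralizer_iff]
  intro v hv
  exact (Subgroup.mem_centralizer_iff.mp (heq hv) a ha).symm

/-- The structure of `Z(J(S))`: `Y = Z(J(S)) V` is normal, `[Y, ⟨J(S)^G⟩] ≤ V`, `G = ⟨J(S)^G⟩ Q`, `S = J(S) Q`. -/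
theorem PU.structureY (h : PU p S Q) (hZ : ¬ (ZZ S).Normal) (hJ : ¬ thompsonSubgroupAOf S ≤ Q) :
    (centerThompsonAOf S ⊔ VV S).Normal ∧ centerThompsonAOf S ≤ Q ∧
      thompsonSubgroupAOf S ⊔ Q = S ∧
      Subgroup.normalClosure (thompsonSubgroupAOf S : Set G) ⊔ Q = ⊤ := by
  have hQn := h.nQ
  have hJS : thompsonSubgroupAOf S ≤ S := thompsonSubgroupAOf_le S
  -- `Z(J(S)) ≤ Q`
  obtain ⟨A₁, hA₁⟩ := maxAbelianIn_nonempty S
  have hA₁' := h.maxAb_inf_sup hZ hJ hA₁
  have hA'Q : ∀ A : Subgroup G, A ⊓ Q ⊔ VV S ≤ Q := fun A =>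
    sup_le inf_le_right (h.VV_le.trans inf_le_left)
  have hZJA : ∀ A ∈ maxAbelianIn S, centerThompsonAOf S ≤ A := by
    intro A hA
    refine le_trans ?_ (inf_centralizer_le_of_mem_maxAbelianIn hA)
    exact le_inf (centerThompsonAOf_le S) ((centerThompsonAOf_le_centralizer S).trans
      (Subgroup.centralizer_le (le_thompsonSubgroupAOf hA)))
  have hZJQ : centerThompsonAOf S ≤ Q := (hZJA _ hA₁').trans (hA'Q A₁)
  -- `𝒜(Q) ⊆ 𝒜(S)`
  have hQmax : ∀ A ∈ maxAbelianIn S, A ≤ Q → A ∈ maxAbelianIn Q := fun A hA hAQ =>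
    ⟨hAQ, hA.2.1, fun B hB hBc => hA.2.2 B (hB.trans h.le) hBc⟩
  have hQmax' : ∀ A ∈ maxAbelianIn Q, A ∈ maxAbelianIn S := fun A hA =>
    ⟨hA.1.trans h.le, hA.2.1, fun B hB hBc =>
      (hA₁'.2.2 B hB hBc).trans (hA.2.2 _ (hA'Q A₁) hA₁'.2.1)⟩
  have hJQJS : thompsonSubgroupAOf Q ≤ thompsonSubgroupAOf S := by
    rw [thompsonSubgroupAOf_eq_sSup, thompsonSubgroupAOf_eq_sSup]
    exact sSup_le_sSup hQmax'
  have hZJZJ : centerThompsonAOf S ≤ centerThompsonAOf Q := by
    rw [← inf_centralizer_thompsonSubgroupAOf_eq Q]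
    exact le_inf hZJQ ((centerThompsonAOf_le_centralizer S).trans (Subgroup.centralizer_le hJQJS))
  have hZJQn : (centerThompsonAOf Q).Normal := by
    rw [← Subgroup.normalizer_eq_top_iff, eq_top_iff]
    have := normalizer_le_normalizer_centerThompsonAOf Q
    rwa [Subgroup.normalizer_eq_top_iff.mpr hQn] at this
  set Y : Subgroup G := Subgroup.normalClosure (centerThompsonAOf S : Set G) with hYdef
  have hYn : Y.Normal := Subgroup.normalClosure_normal
  have hYZ : Y ≤ centerThompsonAOf Q := Subgroup.normalClosure_le_normal hZJZJ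
  have hVY : VV S ≤ Y := by
    apply Subgroup.normalClosure_le_normal
    exact (inf_centralizer_le_centerThompsonAOf S).trans Subgroup.subset_normalClosure
  have hYA : ∀ A ∈ maxAbelianIn S, ⁅Y, A⁆ ≤ VV S := by
    intro A hA
    have hAc := (PLocal.ThompsonJA.isMulCommutative_iff A).mp hA.2.1
    have h1 : Y ≤ A ⊓ Q ⊔ VV S := by
      refine hYZ.trans (le_trans ?_ (inf_centralizer_le_of_mem_maxAbelianIn
        (hQmax _ (h.maxAb_inf_sup hZ hJ hA) (hA'Q A))))
      exact le_inf (centerThompsonAOf_le Q) ((centerThompsonAOf_le_centralizer Q).trans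
        (Subgroup.centralizer_le (le_thompsonSubgroupAOf
          (hQmax _ (h.maxAb_inf_sup hZ hJ hA) (hA'Q A)))))
    rw [Subgroup.commutator_le]
    intro y hy a ha
    obtain ⟨b, hb, v, hv, rfl⟩ := Subgroup.mem_sup_of_normal_right.mp (h1 hy)
    have e1 := hAc b hb.1 a ha
    have e : ⁅b * v, a⁆ = b * (v * (a * v⁻¹ * a⁻¹)) * b⁻¹ := by
      calc ⁅b * v, a⁆ = b * v * a * v⁻¹ * b⁻¹ * a⁻¹ := by rw [commutatorElement_def]; group
        _ = b * v * a * v⁻¹ * (a⁻¹ * (a * b⁻¹) * a⁻¹) := by group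
        _ = b * v * a * v⁻¹ * (a⁻¹ * (b⁻¹ * a) * a⁻¹) := by
            rw [show a * b⁻¹ = b⁻¹ * a by
              rw [mul_inv_eq_iff_eq_mul, mul_assoc, ← e1, inv_mul_cancel_left]]
        _ = _ := by group
    rw [e]
    have hVn : (VV S).Normal := inferInstance
    exact hVn.conj_mem _ (mul_mem hv (hVn.conj_mem _ (inv_mem hv) a)) b
  have hYJ : ⁅Y, thompsonSubgroupAOf S⁆ ≤ VV S := by
    rw [Subgroup.commutator_comm, Subgroup.commutator_le]
    have h1 : thompsonSubgroupAOf S ≤
        (Subgroup.centralizer ((Y.map (QuotientGroup.mk' (VV S)) : Subgroup (G ⧸ VV S)) :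
          Set (G ⧸ VV S))).comap (QuotientGroup.mk' (VV S)) := by
      rw [thompsonSubgroupAOf_eq_sSup]
      apply sSup_le
      intro A hA a ha
      change QuotientGroup.mk' (VV S) a ∈ Subgroup.centralizer _
      rw [Subgroup.mem_centralizer_iff]
      rintro _ ⟨y, hy, rfl⟩
      rw [← commutatorElement_eq_one_iff_mul_comm, ← map_commutatorElement]
      exact (QuotientGroup.eq_one_iff _).mpr (hYA A hA (Subgroup.commutator_mem_commutator hy ha))
    intro x hx y hy
    have h2 := Subgroup.mem_centralizer_iff.mp (h1 hx) _ ⟨y, hy, rfl⟩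
    rw [← commutatorElement_eq_one_iff_mul_comm, ← map_commutatorElement] at h2
    have h3 : ⁅y, x⁆ ∈ VV S := (QuotientGroup.eq_one_iff _).mp h2
    rw [← inv_mem_iff, commutatorElement_inv]
    exact h3
  have hYX : ⁅Y, Subgroup.normalClosure (thompsonSubgroupAOf S : Set G)⁆ ≤ VV S :=
    commutator_normalClosure_le hYJ
  have hJQ : thompsonSubgroupAOf S ⊔ Q = S := by
    have h0 := h.irr (thompsonSubgroupAOf S ⊔ Q) le_sup_right (sup_le hJS h.le) ?_
    · rcases h0 with h1 | h1
      · exact absurd (h1 ▸ le_sup_left) hJ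
      · exact h1
    · intro x hx r hr
      obtain ⟨j, hj, q, hq, rfl⟩ := Subgroup.mem_sup_of_normal_right.mp hr
      have e : x * (j * q) * x⁻¹ = (x * j * x⁻¹) * (x * q * x⁻¹) := by group
      rw [e]
      refine Subgroup.mul_mem_sup ?_ (hQn.conj_mem _ hq x)
      exact (Subgroup.mem_normalizer_iff.mp
        (normalizer_le_normalizer_thompsonSubgroupAOf S hx) j).mp hj
  have htop : Subgroup.normalClosure (thompsonSubgroupAOf S : Set G) ⊔ Q = ⊤ := by
    apply h.big _ inferInstance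
    have h1 : thompsonSubgroupAOf S ≤ Subgroup.normalClosure (thompsonSubgroupAOf S : Set G) :=
      Subgroup.subset_normalClosure
    have h2 : thompsonSubgroupAOf S ⊔ Q ≤
        Subgroup.normalClosure (thompsonSubgroupAOf S : Set G) ⊔ Q :=
      sup_le (h1.trans le_sup_left) le_sup_right
    rwa [hJQ] at h2
  refine ⟨?_, hZJQ, hJQ, htop⟩
  rw [← Subgroup.normalizer_eq_top_iff, eq_top_iff, ← htop]
  have hYle : centerThompsonAOf S ⊔ VV S ≤ Y := sup_le Subgroup.subset_normalClosure hVY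
  apply sup_le
  · intro x hx
    have key : ∀ x ∈ Subgroup.normalClosure (thompsonSubgroupAOf S : Set G),
        ∀ y ∈ centerThompsonAOf S ⊔ VV S, x * y * x⁻¹ ∈ centerThompsonAOf S ⊔ VV S := by
      intro x hx y hy
      have h1 : ⁅y, x⁆ ∈ VV S := hYX (Subgroup.commutator_mem_commutator (hYle hy) hx)
      have e : x * y * x⁻¹ = ⁅y, x⁆⁻¹ * y := by rw [commutatorElement_def]; group
      rw [e]
      exact mul_mem (Subgroup.mem_sup_right (inv_mem h1)) hy
    rw [Subgroup.mem_normalizer_iff]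
    intro y
    refine ⟨key x hx y, fun hy => ?_⟩
    have := key x⁻¹ (inv_mem hx) _ hy
    rwa [show x⁻¹ * (x * y * x⁻¹) * x⁻¹⁻¹ = y by group] at this
  · have h1 : Q ≤ Subgroup.normalizer (centerThompsonAOf S : Set G) :=
      h.le.trans (Subgroup.le_normalizer.trans (normalizer_le_normalizer_centerThompsonAOf S))
    intro x hx
    have key : ∀ x ∈ Q, ∀ y ∈ centerThompsonAOf S ⊔ VV S,
        x * y * x⁻¹ ∈ centerThompsonAOf S ⊔ VV S := by
      intro x hx y hy
      obtain ⟨z, hz, v, hv, rfl⟩ := Subgroup.mem_sup_of_normal_right.mp hy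
      have e : x * (z * v) * x⁻¹ = (x * z * x⁻¹) * (x * v * x⁻¹) := by group
      rw [e]
      have hVn : (VV S).Normal := inferInstance
      exact Subgroup.mul_mem_sup ((Subgroup.mem_normalizer_iff.mp (h1 hx) z).mp hz)
        (hVn.conj_mem _ hv x)
    rw [Subgroup.mem_normalizer_iff]
    intro y
    refine ⟨key x hx y, fun hy => ?_⟩
    have := key x⁻¹ (inv_mem hx) _ hy
    rwa [show x⁻¹ * (x * y * x⁻¹) * x⁻¹⁻¹ = y by group] at this

theorem sup_commutator_le {H₁ H₂ K C : Subgroup G} [C.Normal] (h1 : ⁅H₁, K⁆ ≤ C) (h2 : ⁅H₂, K⁆ ≤ C) :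
    ⁅H₁ ⊔ H₂, K⁆ ≤ C := by
  have key : ∀ x y : G, ⁅x, y⁆ ∈ C ↔ (QuotientGroup.mk' C x) * (QuotientGroup.mk' C y) =
      (QuotientGroup.mk' C y) * (QuotientGroup.mk' C x) := by
    intro x y
    rw [← commutatorElement_eq_one_iff_mul_comm, ← map_commutatorElement]
    exact (QuotientGroup.eq_one_iff _).symm
  have h3 : ∀ H : Subgroup G, ⁅H, K⁆ ≤ C → H ≤
      (Subgroup.centralizer ((K.map (QuotientGroup.mk' C) : Subgroup (G ⧸ C)) : Set (G ⧸ C))).comap
        (QuotientGroup.mk' C) := by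
    intro H hH x hx
    change QuotientGroup.mk' C x ∈ Subgroup.centralizer _
    rw [Subgroup.mem_centralizer_iff]
    rintro _ ⟨y, hy, rfl⟩
    exact ((key x y).mp (hH (Subgroup.commutator_mem_commutator hx hy))).symm
  rw [Subgroup.commutator_le]
  intro x hx y hy
  rw [key]
  exact (Subgroup.mem_centralizer_iff.mp ((sup_le (h3 _ h1) (h3 _ h2)) hx) _ ⟨y, hy, rfl⟩).symm

/-- **Baumann's theorem**, the case `J(S) ≰ Q`. -/
theorem PU.baumann (h : PU p S Q) (hZ : ¬ (ZZ S).Normal) (hJ : ¬ thompsonSubgroupAOf S ≤ Q)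
    (P : Sylow p G) (hP : (P : Subgroup G) = S) :
    ⁅centerThompsonAOf S, S⁆ ⊓ ZZ S ≤ Subgroup.center G ∧
    ∃ T : Sylow p ↥(Subgroup.normalClosure ((S ⊓ Subgroup.centralizer (centerThompsonAOf S : Set G) :
      Subgroup G) : Set G)), (T : Subgroup ↥(Subgroup.normalClosure
        ((S ⊓ Subgroup.centralizer (centerThompsonAOf S : Set G) : Subgroup G) : Set G))) =
        (S ⊓ Subgroup.centralizer (centerThompsonAOf S : Set G)).subgroupOf
          (Subgroup.normalClosure ((S ⊓ Subgroup.centralizer (centerThompsonAOf S : Set G) :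
            Subgroup G) : Set G)) := by
  obtain ⟨hYn, hZJQ, hJQ, htop⟩ := h.structureY hZ hJ
  have hQn := h.nQ
  set B : Subgroup G := S ⊓ Subgroup.centralizer (centerThompsonAOf S : Set G) with hBdef
  set X : Subgroup G := Subgroup.normalClosure (B : Set G) with hXdef
  have hXn : X.Normal := Subgroup.normalClosure_normal
  set C : Subgroup G := Q ⊓ Subgroup.centralizer ((centerThompsonAOf S ⊔ VV S : Subgroup G) : Set G)
    with hCdef
  have hCn : C.Normal := inferInstance
  have hQC : ∀ x ∈ Q, x ∈ Subgroup.centralizer (centerThompsonAOf S : Set G) → x ∈ C := by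
    intro x hx hx'
    refine ⟨hx, ?_⟩
    rw [centralizer_sup]
    exact ⟨hx', h.Q_le_cent hx⟩
  have hCcent : ∀ x ∈ C, x ∈ Subgroup.centralizer (centerThompsonAOf S : Set G) := by
    intro x hx
    have h1 := hx.2
    rw [centralizer_sup] at h1
    exact h1.1
  have hCB : C ≤ B := fun x hx => ⟨h.le hx.1, hCcent x hx⟩
  have hJB : thompsonSubgroupAOf S ≤ B := by
    refine le_inf (thompsonSubgroupAOf_le S) ?_
    intro j hj
    rw [Subgroup.mem_centralizer_iff]
    intro z hz
    exact (Subgroup.mem_centralizer_iff.mp (centerThompsonAOf_le_centralizer S hz) j hj).symm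
  have hBX : B ≤ X := Subgroup.subset_normalClosure
  have hSN : S ≤ Subgroup.normalizer (centerThompsonAOf S : Set G) :=
    Subgroup.le_normalizer.trans (normalizer_le_normalizer_centerThompsonAOf S)
  -- conjugation in `N(Z(J))` preserves the centralizer
  have hcc : ∀ n ∈ Subgroup.normalizer (centerThompsonAOf S : Set G),
      ∀ b ∈ Subgroup.centralizer (centerThompsonAOf S : Set G),
        n * b * n⁻¹ ∈ Subgroup.centralizer (centerThompsonAOf S : Set G) := by
    intro n hn b hb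
    rw [Subgroup.mem_centralizer_iff]
    intro z hz
    have h1 := (Subgroup.mem_normalizer_iff.mp (inv_mem hn) z).mp hz
    rw [inv_inv] at h1
    have h2 := Subgroup.mem_centralizer_iff.mp hb _ h1
    calc z * (n * b * n⁻¹) = n * ((n⁻¹ * z * n) * b) * n⁻¹ := by group
      _ = n * (b * (n⁻¹ * z * n)) * n⁻¹ := by rw [h2]
      _ = _ := by group
  have hSB : ∀ s ∈ S, ∀ b ∈ B, s * b * s⁻¹ ∈ B := fun s hs b hb =>
    ⟨S.mul_mem (S.mul_mem hs hb.1) (S.inv_mem hs), hcc s (hSN hs) b hb.2⟩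
  have hQB : ⁅Q, B⁆ ≤ C := by
    rw [Subgroup.commutator_le]
    intro q hq b hb
    apply hQC
    · have e : ⁅q, b⁆ = q * (b * q⁻¹ * b⁻¹) := by rw [commutatorElement_def]; group
      rw [e]
      exact mul_mem hq (hQn.conj_mem _ (inv_mem hq) b)
    · have h1 : ⁅q, b⁆ ∈ B := by
        rw [commutatorElement_def]
        exact mul_mem (hSB q (h.le hq) b hb) (inv_mem hb)
      exact h1.2
  have hQX : ⁅Q, X⁆ ≤ C := commutator_normalClosure_le hQB
  have hXtop : X ⊔ Q = ⊤ := by
    rw [eq_top_iff, ← htop]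
    have h1 : Subgroup.normalClosure (thompsonSubgroupAOf S : Set G) ≤ X :=
      Subgroup.normalClosure_le_normal (hJB.trans hBX)
    exact sup_le (h1.trans le_sup_left) le_sup_right
  constructor
  · -- `[Z(J(S)), S] ⊓ Z(S)` is central
    set D : Subgroup G := ⁅centerThompsonAOf S ⊔ VV S, Q⁆ with hDdef
    have hDn : D.Normal := inferInstance
    have hD1 : D ≤ ⁅centerThompsonAOf S, Q⁆ := by
      rw [hDdef, Subgroup.commutator_le]
      intro y hy q hq
      obtain ⟨z, hz, v, hv, rfl⟩ := Subgroup.mem_sup_of_normal_right.mp hy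
      have e1 : q * v = v * q := (Subgroup.mem_centralizer_iff.mp (h.VV_le hv).2 q hq)
      have e : ⁅z * v, q⁆ = ⁅z, q⁆ := by
        calc ⁅z * v, q⁆ = z * (v * q) * v⁻¹ * z⁻¹ * q⁻¹ := by rw [commutatorElement_def]; group
          _ = z * (q * v) * v⁻¹ * z⁻¹ * q⁻¹ := by rw [e1]
          _ = _ := by rw [commutatorElement_def]; group
      rw [e]
      exact Subgroup.commutator_mem_commutator hz hq
    have hJD : thompsonSubgroupAOf S ≤ Subgroup.centralizer (D : Set G) := by
      rw [Subgroup.le_centralizer_iff]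
      refine hD1.trans ?_
      rw [Subgroup.commutator_le]
      intro z hz q hq
      rw [Subgroup.mem_centralizer_iff]
      intro j hj
      have e1 : j * z = z * j := Subgroup.mem_centralizer_iff.mp (centerThompsonAOf_le_centralizer S hz) j hj
      have h1 : ⁅q⁻¹, j⁆ ∈ C := hQB (Subgroup.commutator_mem_commutator (inv_mem hq) (hJB hj))
      have e2 := Subgroup.mem_centralizer_iff.mp (hCcent _ h1) z hz
      have e3 : j * ⁅z, q⁆ * j⁻¹ = ⁅z, q⁆ := by
        have e4 : j * ⁅z, q⁆ * j⁻¹ = ⁅j * z * j⁻¹, j * q * j⁻¹⁆ := by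
          rw [commutatorElement_def, commutatorElement_def]; group
        have e5 : j * z * j⁻¹ = z := by rw [e1, mul_inv_cancel_right]
        have e6 : j * q * j⁻¹ = q * ⁅q⁻¹, j⁆ := by rw [commutatorElement_def]; group
        rw [e4, e5, e6]
        calc ⁅z, q * ⁅q⁻¹, j⁆⁆ = z * q * (⁅q⁻¹, j⁆ * z⁻¹) * ⁅q⁻¹, j⁆⁻¹ * q⁻¹ := by
              rw [commutatorElement_def z]; group
          _ = z * q * (z⁻¹ * ⁅q⁻¹, j⁆) * ⁅q⁻¹, j⁆⁻¹ * q⁻¹ := by
              rw [show ⁅q⁻¹, j⁆ * z⁻¹ = z⁻¹ * ⁅q⁻¹, j⁆ by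
                rw [mul_inv_eq_iff_eq_mul, mul_assoc, ← e2, inv_mul_cancel_left]]
          _ = _ := by rw [commutatorElement_def z]; group
      calc j * ⁅z, q⁆ = (j * ⁅z, q⁆ * j⁻¹) * j := by group
        _ = ⁅z, q⁆ * j := by rw [e3]
    have hX₀D : Subgroup.normalClosure (thompsonSubgroupAOf S : Set G) ≤
        Subgroup.centralizer (D : Set G) := Subgroup.normalClosure_le_normal hJD
    have hZJS : ⁅centerThompsonAOf S, S⁆ ≤ D := by
      rw [Subgroup.commutator_le]
      intro z hz s hs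
      rw [← hJQ] at hs
      obtain ⟨j, hj, q, hq, rfl⟩ := Subgroup.mem_sup_of_normal_right.mp hs
      have e1 : j * z = z * j := Subgroup.mem_centralizer_iff.mp (centerThompsonAOf_le_centralizer S hz) j hj
      have e : ⁅z, j * q⁆ = j * ⁅z, q⁆ * j⁻¹ := by
        calc ⁅z, j * q⁆ = (z * j) * q * z⁻¹ * q⁻¹ * j⁻¹ := by rw [commutatorElement_def]; group
          _ = (j * z) * q * z⁻¹ * q⁻¹ * j⁻¹ := by rw [e1]
          _ = _ := by rw [commutatorElement_def]; group
      rw [e]
      exact hDn.conj_mem _ (Subgroup.commutator_mem_commutator (Subgroup.mem_sup_left hz) hq) j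
    rintro x ⟨hx1, hx2⟩
    have h1 : Subgroup.centralizer ({x} : Set G) = ⊤ := by
      rw [eq_top_iff, ← htop]
      apply sup_le
      · intro y hy
        rw [Subgroup.mem_centralizer_singleton_iff]
        exact (Subgroup.mem_centralizer_iff.mp (hX₀D hy) x (hZJS hx1)).symm
      · intro y hy
        rw [Subgroup.mem_centralizer_singleton_iff]
        exact (mem_ZZ.mp hx2).2 y (h.le hy)
    rw [Subgroup.mem_center_iff]
    intro y
    have h2 : y ∈ Subgroup.centralizer ({x} : Set G) := by rw [h1]; trivial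
    exact Subgroup.mem_centralizer_singleton_iff.mp h2
  · obtain ⟨T, hT⟩ := exists_sylow_subgroupOf P X
    rw [hP] at hT
    refine ⟨T, le_antisymm ?_ ?_⟩
    · have hSX : ∀ s ∈ S, s ∈ X → ∃ b ∈ B, ∃ q ∈ Q, q ∈ X ∧ s = b * q := by
        intro s hs hsX
        rw [← hJQ] at hs
        obtain ⟨j, hj, q, hq, rfl⟩ := Subgroup.mem_sup_of_normal_right.mp hs
        refine ⟨j, hJB hj, q, hq, ?_, rfl⟩
        have := X.mul_mem (X.inv_mem (hBX (hJB hj))) hsX
        rwa [inv_mul_cancel_left] at this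
      have : (C.subgroupOf X).Normal := inferInstance
      have hSS : ⁅S ⊓ X, S ⊓ X⁆ ≤ C := by
        have h1 : S ⊓ X ≤ B ⊔ (Q ⊓ X) := by
          rintro s ⟨hs, hsX⟩
          obtain ⟨b, hb, q, hq, hqX, rfl⟩ := hSX s hs hsX
          exact Subgroup.mul_mem_sup hb ⟨hq, hqX⟩
        have hBB : ⁅B, B⁆ ≤ C := by
          rw [Subgroup.commutator_le]
          intro a ha b hb
          apply hQC
          · exact h.comm (Subgroup.commutator_mem_commutator ha.1 hb.1)
          · have h5 : ⁅a, b⁆ ∈ B := by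
              rw [commutatorElement_def]
              exact B.mul_mem (B.mul_mem (B.mul_mem ha hb) (B.inv_mem ha)) (B.inv_mem hb)
            exact h5.2
        have hQXX : ⁅Q ⊓ X, X⁆ ≤ C := (Subgroup.commutator_mono inf_le_left le_rfl).trans hQX
        have h2 : ⁅B ⊔ (Q ⊓ X), B⁆ ≤ C := by
          apply sup_commutator_le hBB
          exact (Subgroup.commutator_mono le_rfl hBX).trans hQXX
        have h3 : ⁅B ⊔ (Q ⊓ X), Q ⊓ X⁆ ≤ C := by
          rw [Subgroup.commutator_comm]
          exact (Subgroup.commutator_mono le_rfl (sup_le hBX inf_le_right)).trans hQXX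
        have h4 : ⁅B ⊔ (Q ⊓ X), B ⊔ (Q ⊓ X)⁆ ≤ C := by
          apply sup_commutator_le
          · rw [Subgroup.commutator_comm]; exact h2
          · rw [Subgroup.commutator_comm]; exact h3
        exact (Subgroup.commutator_mono h1 h1).trans h4
      have hcen : centerThompsonAOf (S ⊓ X) = centerThompsonAOf S :=
        centerThompsonAOf_eq_of_le (le_inf (thompsonSubgroupAOf_le S) (hJB.trans hBX)) inf_le_left
      apply sylow_le_of_normalClosure T (C.subgroupOf X) (B.subgroupOf X) (Q.subgroupOf X)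
      · rw [hT, Subgroup.commutator_le]
        intro x hx y hy
        exact hSS (Subgroup.commutator_mem_commutator ⟨hx, x.2⟩ ⟨hy, y.2⟩)
      · exact fun x hx => hCB hx
      · rw [hT]
        exact fun x hx => hx.1
      · intro n hn b hb
        rw [hT] at hn
        have hn' : (n : G) ∈ Subgroup.normalizer ((S ⊓ X : Subgroup G) : Set G) := by
          rw [Subgroup.mem_normalizer_iff] at hn ⊢
          intro x
          constructor
          · rintro ⟨hxS, hxX⟩
            have h2 := (hn ⟨x, hxX⟩).mp hxS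
            exact ⟨h2, hXn.conj_mem _ hxX n⟩
          · rintro ⟨hxS, hxX⟩
            have hxX' : x ∈ X := by
              have := hXn.conj_mem _ hxX (n : G)⁻¹
              rwa [show (n : G)⁻¹ * ((n : G) * x * (n : G)⁻¹) * (n : G)⁻¹⁻¹ = x by group] at this
            exact ⟨(hn ⟨x, hxX'⟩).mpr hxS, hxX'⟩
        have hn2 := normalizer_le_normalizer_centerThompsonAOf (S ⊓ X) hn'
        rw [hcen] at hn2
        exact ⟨((Subgroup.mem_normalizer_iff.mp hn' (b : G)).mp ⟨hb.1, b.2⟩).1, hcc _ hn2 _ hb.2⟩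
      · intro z hz x
        exact hQX (Subgroup.commutator_mem_commutator hz x.2)
      · rw [hT]
        intro x hx
        obtain ⟨b, hb, q, hq, hqX, e⟩ := hSX x hx x.2
        have e' : x = (⟨b, hBX hb⟩ : X) * ⟨q, hqX⟩ := Subtype.ext e
        rw [e']
        exact Subgroup.mul_mem_sup hb hq
      · -- the normal closure of `B` in `X` is `X`
        set N : Subgroup X := Subgroup.normalClosure ((B.subgroupOf X : Subgroup X) : Set X) with hNdef
        have hNn : N.Normal := Subgroup.normalClosure_normal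
        have hq : ∀ q ∈ Q, ∀ x ∈ N.map X.subtype, q * x * q⁻¹ ∈ N.map X.subtype := by
          rintro q hq _ ⟨x, hx, rfl⟩
          have h1 : N ≤ N.comap (MulAut.conjNormal q : X ≃* X).toMonoidHom := by
            apply Subgroup.normalClosure_le_normal
            intro b hb
            change (MulAut.conjNormal q : X ≃* X) b ∈ N
            apply Subgroup.subset_normalClosure
            exact hSB q (h.le hq) b hb
          exact ⟨MulAut.conjNormal q x, h1 hx, MulAut.conjNormal_apply q x⟩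
        have hx : ∀ y ∈ X, ∀ x ∈ N.map X.subtype, y * x * y⁻¹ ∈ N.map X.subtype := by
          rintro y hy _ ⟨x, hx, rfl⟩
          exact ⟨_, hNn.conj_mem x hx ⟨y, hy⟩, rfl⟩
        have hNG : (N.map X.subtype).Normal := by
          constructor
          intro x hx' g
          have hg : g ∈ X ⊔ Q := by rw [hXtop]; trivial
          obtain ⟨y, hy, q, hq', rfl⟩ := Subgroup.mem_sup_of_normal_right.mp hg
          have e : y * q * x * (y * q)⁻¹ = y * (q * x * q⁻¹) * y⁻¹ := by group
          rw [e]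
          exact hx y hy _ (hq q hq' x hx')
        have h2 : X ≤ N.map X.subtype := by
          apply Subgroup.normalClosure_le_normal
          intro b hb
          exact ⟨⟨b, hBX hb⟩, Subgroup.subset_normalClosure hb, rfl⟩
        rw [eq_top_iff]
        intro x _
        obtain ⟨y, hy, e⟩ := h2 x.2
        have : y = x := Subtype.ext e
        rwa [this] at hy
    · rw [hT]
      exact fun x hx => hx.1

end main

end Cfsg.Agent.H449.PushUp
end

-- part: H449/PushUpPSL
section
/-!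
# Rank one pushing up: from `G / K ≃ PSL₂(q)` to `PU`
-/

set_option autoImplicit false
open Cfsg
open scoped commutatorElement
open Cfsg.Agent.LieClassical.SLTwoUnipotent Cfsg.Agent.ClassicalGeometry.PSL2Basic

namespace Cfsg.Agent.H449.PushUp

open Matrix

section SL

variable {F : Type*} [Field F] {L : Type*} [Group L]
  (φ : SpecialLinearGroup (Fin 2) F →* L)

/-- The diagonal matrix. -/
def hd (t : F) (ht : t ≠ 0) : SpecialLinearGroup (Fin 2) F :=
  ⟨!![t, 0; 0, t⁻¹], by rw [Matrix.det_fin_two_of]; field_simp; ring⟩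

theorem coe_hd (t : F) (ht : t ≠ 0) : ((hd t ht : SpecialLinearGroup (Fin 2) F) :
    Matrix (Fin 2) (Fin 2) F) = !![t, 0; 0, t⁻¹] := rfl

theorem hd_conj (t : F) (ht : t ≠ 0) (x : F) : hd t ht * u x * (hd t ht)⁻¹ = u (t ^ 2 * x) := by
  rw [mul_inv_eq_iff_eq_mul]
  apply ext_coe
  rw [coe_mul, coe_mul, coe_hd, coe_u, coe_u, Matrix.mul_fin_two, Matrix.mul_fin_two]
  ext i j
  fin_cases i <;> fin_cases j
  · simp
  · simp
    field_simp
  · simp
  · simp

/-- The Weyl element. -/
def wl : SpecialLinearGroup (Fin 2) F := ⟨!![0, 1; -1, 0], by rw [Matrix.det_fin_two_of]; ring⟩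

theorem coe_wl : ((wl : SpecialLinearGroup (Fin 2) F) : Matrix (Fin 2) (Fin 2) F) = !![0, 1; -1, 0] :=
  rfl

theorem wl_conj (x : F) : wl⁻¹ * u x * wl = l (-x) := by
  rw [mul_assoc, inv_mul_eq_iff_eq_mul]
  apply ext_coe
  rw [coe_mul, coe_mul, coe_wl, coe_u, coe_l, Matrix.mul_fin_two, Matrix.mul_fin_two]
  ext i j
  fin_cases i <;> fin_cases j <;> simp

variable (hφ : Function.Surjective φ) (hker : φ.ker ≤ Subgroup.center (SpecialLinearGroup (Fin 2) F))

include hker in
theorem u_eq_zero {x : F} (h : φ (u x) = 1) : x = 0 := by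
  have h1 : u x ∈ Subgroup.center (SpecialLinearGroup (Fin 2) F) := hker h
  rcases mem_center_SL2_iff.mp h1 with h2 | h2
  · have h3 := congrArg (fun g : SpecialLinearGroup (Fin 2) F => g 0 1) h2
    simp only [coe_u, coe_one] at h3
    simpa using h3
  · have h3 := congrArg (fun g : SpecialLinearGroup (Fin 2) F => g 0 1) h2
    simp only [coe_u, SpecialLinearGroup.coe_neg, coe_one] at h3
    simpa using h3

include hker in
/-- `φ(u 1)` and `φ(l 1)` do not commute. -/
theorem not_comm : φ (u 1) * φ (l 1) ≠ φ (l 1) * φ (u 1) := by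
  intro h
  rw [← map_mul, ← map_mul] at h
  have h1 : (l 1 * u 1 : SpecialLinearGroup (Fin 2) F)⁻¹ * (u 1 * l 1) ∈ φ.ker := by
    rw [MonoidHom.mem_ker, map_mul, map_inv, h, inv_mul_cancel]
  have e1 : ((u 1 * l 1 : SpecialLinearGroup (Fin 2) F) : Matrix (Fin 2) (Fin 2) F) = !![2, 1; 1, 1] := by
    rw [coe_mul, coe_u, coe_l, Matrix.mul_fin_two]
    ext i j
    fin_cases i <;> fin_cases j <;> simp
    norm_num
  have e2 : ((l 1 * u 1 : SpecialLinearGroup (Fin 2) F) : Matrix (Fin 2) (Fin 2) F) = !![1, 1; 1, 2] := by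
    rw [coe_mul, coe_u, coe_l, Matrix.mul_fin_two]
    ext i j
    fin_cases i <;> fin_cases j <;> simp
    norm_num
  rcases mem_center_SL2_iff.mp (hker h1) with h2 | h2
  · rw [inv_mul_eq_iff_eq_mul, mul_one] at h2
    have h3 := congrArg (fun g : SpecialLinearGroup (Fin 2) F => g 0 0) h2
    simp only [e1, e2] at h3
    simp at h3
    exact one_ne_zero (show (1 : F) = 0 by linear_combination h3)
  · rw [inv_mul_eq_iff_eq_mul] at h2
    have h3 := congrArg (fun g : SpecialLinearGroup (Fin 2) F => g 0 0) h2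
    have h4 := congrArg (fun g : SpecialLinearGroup (Fin 2) F => g 0 1) h2
    have e3 : ((l 1 * u 1 * -1 : SpecialLinearGroup (Fin 2) F) : Matrix (Fin 2) (Fin 2) F) =
        !![-1, -1; -1, -2] := by
      rw [coe_mul, e2, SpecialLinearGroup.coe_neg, coe_one]
      ext i j
      fin_cases i <;> fin_cases j <;> simp
    simp only [e1, e3] at h3 h4
    simp at h3 h4
    have h5 : (2 : F) = 0 := by linear_combination h4
    have h6 : (3 : F) = 0 := by linear_combination h3
    have : (1 : F) = 0 := by linear_combination h6 - h5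
    exact one_ne_zero this

/-- An additive subgroup invariant under squares is everything or trivial. -/
theorem sub_cases [Finite F] (R : F → Prop) (hadd : ∀ x y, R x → R y → R (x + y))
    (hneg : ∀ x, R x → R (-x)) (hsq : ∀ t x, R x → R (t ^ 2 * x)) {r : F} (hr : R r) (hr0 : r ≠ 0)
    (y : F) : R y := by
  have key : ∀ c : F, R (c * r) := by
    intro c
    by_cases h2 : (2 : F) = 0
    · have hch : ringChar F = 2 := by
        have h3 : ringChar F ∣ 2 := by
          rw [← ringChar.spec]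
          exact_mod_cast h2
        have h4 : ringChar F ≠ 1 := by
          exact CharP.char_ne_one F (ringChar F)
        rcases (Nat.dvd_prime Nat.prime_two).mp h3 with h5 | h5
        · exact absurd h5 h4
        · exact h5
      obtain ⟨d, hd⟩ := FiniteField.isSquare_of_char_two hch c
      rw [hd, ← pow_two]
      exact hsq d r hr
    · have e : c * r = ((c + 1) / 2) ^ 2 * r + -(((c - 1) / 2) ^ 2 * r) := by
        field_simp
        ring
      rw [e]
      exact hadd _ _ (hsq _ _ hr) (hneg _ (hsq _ _ hr))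
  have := key (y / r)
  rwa [div_mul_cancel₀ _ hr0] at this

include hφ in
/-- Irreducibility of the action of the torus. -/
theorem irr_of [Finite F] {R : Subgroup L} (hRU : R ≤ (upperUnipSL F).map φ)
    (hR : ∀ c : SpecialLinearGroup (Fin 2) F, c 1 0 = 0 → ∀ r ∈ R, φ c * r * (φ c)⁻¹ ∈ R) :
    R = ⊥ ∨ R = (upperUnipSL F).map φ := by
  by_cases h : R = ⊥
  · exact Or.inl h
  right
  apply le_antisymm hRU
  obtain ⟨⟨r, hr⟩, hr1'⟩ := Subgroup.ne_bot_iff_exists_ne_one.mp h
  have hr1 : r ≠ 1 := fun h => hr1' (Subtype.ext h)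
  obtain ⟨v, hv, hvr⟩ := hRU hr
  rw [eq_u_of_mem_upperUnipSL hv] at hvr
  set x₀ := v 0 1
  have hx₀ : x₀ ≠ 0 := by
    intro h0
    apply hr1
    rw [← hvr, h0, u_zero, map_one]
  have hall : ∀ y : F, φ (u y) ∈ R := by
    apply fun y => sub_cases (fun x => φ (u x) ∈ R) ?_ ?_ ?_ (r := x₀) ?_ hx₀ y
    · intro x y hx hy
      simp only [u_add, map_mul]
      exact mul_mem hx hy
    · intro x hx
      simp only [u_neg, map_inv]
      exact inv_mem hx
    · intro t x hx
      by_cases ht : t = 0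
      · subst ht
        simp only [ne_eq, OfNat.ofNat_ne_zero, not_false_eq_true, zero_pow, zero_mul, u_zero, map_one]
        exact one_mem _
      · rw [← hd_conj t ht, map_mul, map_mul, map_inv]
        apply hR _ _ _ hx
        rw [coe_hd]
        simp
    · rw [hvr]; exact hr
  rintro _ ⟨w, hw, rfl⟩
  rw [eq_u_of_mem_upperUnipSL hw]
  exact hall _

include hφ in
/-- Generation: `U^w` and one nontrivial element of `U` generate. -/
theorem gen_of {x : F} (hx : x ≠ 0) (T : Subgroup L)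
    (hT : ∀ v ∈ upperUnipSL F, φ wl * φ v * (φ wl)⁻¹ ∈ T) (hxT : φ (u x) ∈ T) : T = ⊤ := by
  have h1 : (T.comap φ).comap (MulAut.conj (wl : SpecialLinearGroup (Fin 2) F)).toMonoidHom = ⊤ := by
    have hv : (l (-x) : SpecialLinearGroup (Fin 2) F) 1 0 ≠ 0 := by
      rw [coe_l]
      simpa using hx
    have hlx : l (-x) ∈ (T.comap φ).comap (MulAut.conj (wl : SpecialLinearGroup (Fin 2) F)).toMonoidHom := by
      rw [← wl_conj]
      change φ (wl * (wl⁻¹ * u x * wl) * wl⁻¹) ∈ T
      rw [show wl * (wl⁻¹ * u x * wl) * wl⁻¹ = u x by group]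
      exact hxT
    have hU : upperUnipSL F ≤ (T.comap φ).comap (MulAut.conj (wl : SpecialLinearGroup (Fin 2) F)).toMonoidHom := by
      intro v hv
      change φ (wl * v * wl⁻¹) ∈ T
      rw [map_mul, map_mul, map_inv]
      exact hT v hv
    apply upperUnipSL_sup_conj_eq_top _ hv _ hU
    intro y
    exact mul_mem (mul_mem hlx (hU (u_mem_upperUnipSL y))) (inv_mem hlx)
  rw [eq_top_iff]
  intro y _
  obtain ⟨g, rfl⟩ := hφ y
  have h2 : wl⁻¹ * g * wl ∈ (T.comap φ).comap
      (MulAut.conj (wl : SpecialLinearGroup (Fin 2) F)).toMonoidHom := by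
    rw [h1]; trivial
  change φ (wl * (wl⁻¹ * g * wl) * wl⁻¹) ∈ T at h2
  rwa [show wl * (wl⁻¹ * g * wl) * wl⁻¹ = g by group] at h2

end SL

section exist

variable {G : Type*} [Group G] [Finite G] {p : ℕ} [Fact p.Prime]

/-- A parametrization of `G / K ≃ PSL₂(F)` in which the Sylow subgroup `S` maps to the upper unitriangular matrices. -/
theorem exists_param (S : Sylow p G) (K : Subgroup G) [K.Normal] (F : Type) [Field F] [Fintype F]
    (n : ℕ) (hF : Fintype.card F = p ^ n)
    (e : Nonempty (G ⧸ K ≃* Matrix.ProjectiveSpecialLinearGroup (Fin 2) F)) :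
    ∃ φ : SpecialLinearGroup (Fin 2) F →* G ⧸ K, Function.Surjective φ ∧
      φ.ker ≤ Subgroup.center (SpecialLinearGroup (Fin 2) F) ∧
      (upperUnipSL F).map φ = (S : Subgroup G).map (QuotientGroup.mk' K) := by
  obtain ⟨e⟩ := e
  have hchar : CharP F p := by
    obtain ⟨q, hq⟩ := CharP.exists F
    obtain ⟨m, hqp, hm⟩ := FiniteField.card F q
    have h1 : q = p := by
      have h2 : q ∣ p ^ n := by
        rw [← hF, hm]
        exact dvd_pow_self q m.ne_zero
      exact (Nat.prime_dvd_prime_iff_eq hqp Fact.out).mp (hqp.dvd_of_dvd_pow h2)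
    rwa [h1] at hq
  let φ₀ : SpecialLinearGroup (Fin 2) F →* G ⧸ K :=
    e.symm.toMonoidHom.comp (QuotientGroup.mk' (Subgroup.center (SpecialLinearGroup (Fin 2) F)))
  have h₀ : Function.Surjective φ₀ := e.symm.surjective.comp (QuotientGroup.mk'_surjective _)
  have hk₀ : φ₀.ker ≤ Subgroup.center (SpecialLinearGroup (Fin 2) F) := by
    intro x hx
    have h1 : e.symm (QuotientGroup.mk' (Subgroup.center (SpecialLinearGroup (Fin 2) F)) x) = 1 := hx
    rw [map_eq_one_iff _ e.symm.injective] at h1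
    exact (QuotientGroup.eq_one_iff x).mp h1
  obtain ⟨g, hg⟩ := MulAction.exists_smul_eq (G ⧸ K)
    ((upperUnipSylowSL F p).mapSurjective h₀) (S.mapSurjective (QuotientGroup.mk'_surjective K))
  refine ⟨(MulAut.conj g).toMonoidHom.comp φ₀, (MulAut.conj g).surjective.comp h₀, ?_, ?_⟩
  · intro x hx
    apply hk₀
    have h1 : MulAut.conj g (φ₀ x) = 1 := hx
    rwa [map_eq_one_iff _ (MulAut.conj g).injective] at h1
  · have h1 := congrArg (fun P : Sylow p (G ⧸ K) => (P : Subgroup (G ⧸ K))) hg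
    simp only [Sylow.coe_mapSurjective, Sylow.coe_subgroup_smul] at h1
    rw [← h1, ← Subgroup.map_map]
    rfl

/-- **The hypotheses of the rank one pushing up theorems give `PU`.** -/
theorem pu_of (S : Sylow p G)
    (hE₁ : Subgroup.centralizer (Cfsg.pCore p G : Set G) ≤ Cfsg.pCore p G)
    (hE₂ : ∃! M : Subgroup G, IsCoatom M ∧ (S : Subgroup G) ≤ M) (K : Subgroup G) [K.Normal] (F : Type)
    [Field F] [Fintype F] (n : ℕ) (hn : 1 ≤ n) (hF : Fintype.card F = p ^ n)
    (hE₃ : Nonempty (G ⧸ K ≃* Matrix.ProjectiveSpecialLinearGroup (Fin 2) F)) :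
    PU p (S : Subgroup G) (Cfsg.pCore p G) := by
  obtain ⟨φ, hφ, hker, hU⟩ := exists_param S K F n hF hE₃
  obtain ⟨M, ⟨hM, hSM⟩, hMu⟩ := hE₂
  have hF0 : (p : F) = 0 := by
    have h1 : ((Fintype.card F : ℕ) : F) = 0 := by
      have := FiniteField.cast_card_eq_zero F
      exact this
    rw [hF, Nat.cast_pow] at h1
    exact pow_eq_zero_iff (by omega) |>.mp h1
  -- proper subgroups containing `S` lie in `M`
  have huniq : ∀ T : Subgroup G, (S : Subgroup G) ≤ T → T ≠ ⊤ → T ≤ M := by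
    intro T hT hT1
    obtain ⟨N, hN, hTN⟩ := (eq_top_or_exists_le_coatom T).resolve_left hT1
    rw [← hMu N ⟨hN, hT.trans hTN⟩]
    exact hTN
  have hQn : (Cfsg.pCore p G).Normal := Cfsg.Agent.Lib.HallHigman.pCore_normal p
  have hQS : Cfsg.pCore p G ≤ (S : Subgroup G) := Cfsg.Agent.Lib.HallHigman.pCore_le_sylow p S
  -- dichotomy
  have dich : ∀ N : Subgroup G, N.Normal → N ⊔ (S : Subgroup G) = ⊤ ∨
      N ⊓ (S : Subgroup G) ≤ Cfsg.pCore p G := by
    intro N hN
    by_cases h1 : N ⊔ (S : Subgroup G) = ⊤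
    · exact Or.inl h1
    right
    have h2 : N ⊔ (S : Subgroup G) ≤ M := huniq _ le_sup_right h1
    obtain ⟨T, hT⟩ := exists_sylow_subgroupOf S N
    have h3 : (T : Subgroup N).map N.subtype = N ⊓ (S : Subgroup G) := by
      rw [hT, Subgroup.subgroupOf_map_subtype, inf_comm]
    have h4 : Subgroup.normalizer ((N ⊓ (S : Subgroup G) : Subgroup G) : Set G) ⊔ N = ⊤ := by
      have := Sylow.normalizer_sup_eq_top T
      rwa [h3] at this
    have h5 : (S : Subgroup G) ≤ Subgroup.normalizer ((N ⊓ (S : Subgroup G) : Subgroup G) : Set G) := by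
      intro s hs
      rw [Subgroup.mem_normalizer_iff]
      intro x
      constructor
      · rintro ⟨hx1, hx2⟩
        exact ⟨hN.conj_mem _ hx1 s, S.mul_mem (S.mul_mem hs hx2) (S.inv_mem hs)⟩
      · rintro ⟨hx1, hx2⟩
        have e : x = s⁻¹ * (s * x * s⁻¹) * s⁻¹⁻¹ := by group
        rw [e]
        exact ⟨hN.conj_mem _ hx1 s⁻¹,
          S.mul_mem (S.mul_mem (S.inv_mem hs) hx2) (S.inv_mem (S.inv_mem hs))⟩
    have h6 : Subgroup.normalizer ((N ⊓ (S : Subgroup G) : Subgroup G) : Set G) = ⊤ := by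
      by_contra h7
      have h8 := huniq _ h5 h7
      apply hM.1
      rw [eq_top_iff, ← h4]
      exact sup_le h8 (le_sup_left.trans h2)
    have h7 : (N ⊓ (S : Subgroup G)).Normal := Subgroup.normalizer_eq_top_iff.mp h6
    apply Cfsg.Agent.Lib.HallHigman.le_pCore h7
    exact S.2.to_le inf_le_right
  -- the Sylow subgroup of the quotient
  have hmem : ∀ s ∈ S, ∃ x : F, φ (u x) = QuotientGroup.mk' K s := by
    intro s hs
    have h1 : QuotientGroup.mk' K s ∈ (upperUnipSL F).map φ := by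
      rw [hU]
      exact ⟨s, hs, rfl⟩
    obtain ⟨v, hv, e⟩ := h1
    exact ⟨v 0 1, by rw [← eq_u_of_mem_upperUnipSL hv]; exact e⟩
  have hsurj := QuotientGroup.mk'_surjective K
  have hkerK : ∀ x : G, QuotientGroup.mk' K x = 1 ↔ x ∈ K := fun x => QuotientGroup.eq_one_iff x
  -- `K S ≠ G`
  have hKS : K ⊔ (S : Subgroup G) ≠ ⊤ := by
    intro h1
    apply not_comm φ hker
    have h2 : ∀ y : G ⧸ K, ∃ x : F, φ (u x) = y := by
      intro y
      obtain ⟨g, rfl⟩ := hsurj y
      have hg : g ∈ K ⊔ (S : Subgroup G) := by rw [h1]; trivial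
      obtain ⟨k, hk, s, hs, rfl⟩ := Subgroup.mem_sup_of_normal_left.mp hg
      obtain ⟨x, hx⟩ := hmem s hs
      exact ⟨x, by rw [hx, map_mul, (hkerK k).mpr hk, one_mul]⟩
    obtain ⟨y, hy⟩ := h2 (φ (l 1))
    rw [← hy, ← map_mul, ← map_mul, ← u_add, ← u_add, add_comm]
  have hKSQ : K ⊓ (S : Subgroup G) ≤ Cfsg.pCore p G := (dich K inferInstance).resolve_left hKS
  have hKM : K ≤ M := le_sup_left.trans (huniq _ le_sup_right hKS)
  -- irreducibility in the quotient
  have irrL : ∀ R : Subgroup G, R ≤ S →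
      (∀ x ∈ Subgroup.normalizer ((S : Subgroup G) : Set G), ∀ r ∈ R, x * r * x⁻¹ ∈ R) →
      R ≤ K ∨ (S : Subgroup G) ≤ R ⊔ K := by
    intro R hRS hR
    have h1 := irr_of φ hφ (R := R.map (QuotientGroup.mk' K)) (by rw [hU]; exact Subgroup.map_mono hRS) ?_
    · rcases h1 with h2 | h2
      · left
        intro r hr
        rw [← hkerK]
        have h3 : QuotientGroup.mk' K r ∈ R.map (QuotientGroup.mk' K) := ⟨r, hr, rfl⟩
        rwa [h2, Subgroup.mem_bot] at h3
      · right
        intro s hs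
        have h3 : QuotientGroup.mk' K s ∈ R.map (QuotientGroup.mk' K) := by
          rw [h2, hU]
          exact ⟨s, hs, rfl⟩
        obtain ⟨r, hr, e⟩ := h3
        have h4 : r⁻¹ * s ∈ K := by
          rw [← hkerK, map_mul, map_inv, e, inv_mul_cancel]
        have e2 : s = r * (r⁻¹ * s) := by group
        rw [e2]
        exact Subgroup.mul_mem_sup hr h4
    · rintro c hc _ ⟨r, hr, rfl⟩
      obtain ⟨g, hg⟩ := hsurj (φ c)
      -- `g` normalizes `S K`
      set H : Subgroup G := (S : Subgroup G) ⊔ K with hH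
      have hSH : (S : Subgroup G) ≤ H := le_sup_left
      have hmemH : ∀ x : G, x ∈ H ↔ QuotientGroup.mk' K x ∈ (upperUnipSL F).map φ := by
        intro x
        rw [hU]
        constructor
        · intro hx
          obtain ⟨s, hs, k, hk, rfl⟩ := Subgroup.mem_sup_of_normal_right.mp hx
          exact ⟨s, hs, by rw [map_mul, (hkerK k).mpr hk, mul_one]⟩
        · rintro ⟨s, hs, e⟩
          have h4 : s⁻¹ * x ∈ K := by
            rw [← hkerK, map_mul, map_inv, e, inv_mul_cancel]
          have e2 : x = s * (s⁻¹ * x) := by group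
          rw [e2]
          exact Subgroup.mul_mem_sup hs h4
      have hgH : ((g • S : Sylow p G) : Subgroup G) ≤ H := by
        intro x hx
        rw [Sylow.coe_subgroup_smul, Subgroup.mem_pointwise_smul_iff_inv_smul_mem] at hx
        have hx' : g⁻¹ * x * g ∈ (S : Subgroup G) := by
          have e : (MulAut.conj g)⁻¹ • x = g⁻¹ * x * g := by
            rw [← map_inv, MulAut.smul_def, MulAut.conj_apply, inv_inv]
          rwa [e] at hx
        rw [hmemH]
        obtain ⟨y, hy⟩ := hmem _ hx'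
        have e : QuotientGroup.mk' K x = φ (c * u y * c⁻¹) := by
          rw [map_mul, map_mul, map_inv, hy, ← hg, ← map_inv, ← map_mul, ← map_mul]
          congr 1
          group
        rw [e]
        exact ⟨_, conj_mem_upperUnipSL hc (u_mem_upperUnipSL y), rfl⟩
      obtain ⟨h, hh⟩ := MulAction.exists_smul_eq H (S.subtype hSH) ((g • S).subtype hgH)
      rw [Sylow.smul_subtype] at hh
      have hh' := Sylow.subtype_injective hh
      have hn : (h : G)⁻¹ * g ∈ Subgroup.normalizer ((S : Subgroup G) : Set G) := by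
        have : ((h : G)⁻¹ * g) • S = S := by
          rw [mul_smul, ← hh']
          change (h : G)⁻¹ • ((h : G) • S) = S
          rw [inv_smul_smul]
        exact Sylow.smul_eq_iff_mem_normalizer.mp this
      -- `h` acts trivially
      obtain ⟨z, hz, ez⟩ := (hmemH h).mp h.2
      rw [eq_u_of_mem_upperUnipSL hz] at ez
      have hr' := hR _ hn r hr
      obtain ⟨y, hy⟩ := hmem _ (hRS hr')
      refine ⟨_, hr', ?_⟩
      have e1 : φ c = φ (u (z 0 1)) * QuotientGroup.mk' K ((h : G)⁻¹ * g) := by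
        rw [ez, ← map_mul, mul_inv_cancel_left, hg]
      have e2 : φ c * QuotientGroup.mk' K r * (φ c)⁻¹ =
          φ (u (z 0 1)) * QuotientGroup.mk' K ((h : G)⁻¹ * g * r * ((h : G)⁻¹ * g)⁻¹) *
            (φ (u (z 0 1)))⁻¹ := by
        rw [e1, map_mul _ _ ((h : G)⁻¹ * g)⁻¹, map_mul _ _ r, map_inv]
        group
      rw [e2, ← hy, ← map_inv, ← map_mul, ← map_mul]
      congr 1
      rw [← u_neg, ← u_add, ← u_add]
      congr 1
      ring
  have hSK : ¬ (S : Subgroup G) ≤ K := by
    intro h1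
    have h2 : φ (u 1) ∈ (S : Subgroup G).map (QuotientGroup.mk' K) := by
      rw [← hU]
      exact ⟨u 1, u_mem_upperUnipSL 1, rfl⟩
    obtain ⟨s, hs, e⟩ := h2
    rw [(hkerK s).mpr (h1 hs)] at e
    exact one_ne_zero (u_eq_zero φ hker e.symm)
  -- `Q ≤ K`
  have hQK : Cfsg.pCore p G ≤ K := by
    rcases irrL (Cfsg.pCore p G) hQS (fun x _ r hr => hQn.conj_mem r hr x) with h1 | h1
    · exact h1
    · exfalso
      -- then `S K` is normal
      have h2 : (Cfsg.pCore p G ⊔ K) = (S : Subgroup G) ⊔ K :=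
        le_antisymm (sup_le_sup_right hQS K) (sup_le h1 le_sup_right)
      have h3 : ((S : Subgroup G) ⊔ K).Normal := by rw [← h2]; infer_instance
      -- `S ∩ O_p` ... use generation
      have h4 : (S : Subgroup G) ⊔ K = ⊤ := by
        have h5 : ((S : Subgroup G) ⊔ K).map (QuotientGroup.mk' K) = ⊤ := by
          apply gen_of φ hφ (x := 1) one_ne_zero
          · intro v hv
            have h6 : φ v ∈ ((S : Subgroup G) ⊔ K).map (QuotientGroup.mk' K) := by
              apply Subgroup.map_mono (le_sup_left : (S : Subgroup G) ≤ (S : Subgroup G) ⊔ K)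
              rw [← hU]
              exact ⟨v, hv, rfl⟩
            exact (h3.map _ hsurj).conj_mem _ h6 _
          · apply Subgroup.map_mono (le_sup_left : (S : Subgroup G) ≤ (S : Subgroup G) ⊔ K)
            rw [← hU]
            exact ⟨u 1, u_mem_upperUnipSL 1, rfl⟩
        rw [eq_top_iff]
        intro x _
        have h6 : QuotientGroup.mk' K x ∈ ((S : Subgroup G) ⊔ K).map (QuotientGroup.mk' K) := by
          rw [h5]; trivial
        obtain ⟨y, hy, e⟩ := h6
        have h7 : y⁻¹ * x ∈ K := by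
          rw [← hkerK, map_mul, map_inv, e, inv_mul_cancel]
        have e2 : x = y * (y⁻¹ * x) := by group
        rw [e2]
        exact mul_mem hy (Subgroup.mem_sup_right h7)
      apply hKS
      rwa [sup_comm]
  have hSQ : ∀ s ∈ S, s ∈ K → s ∈ Cfsg.pCore p G := fun s hs hk => hKSQ ⟨hk, hs⟩
  have hne : (S : Subgroup G) ≠ Cfsg.pCore p G := fun h1 => hSK (h1 ▸ hQK)
  refine ⟨hQn, hE₁, hQS, hne, S.2, ?_, ?_, dich, ?_, ?_, ?_⟩
  · rw [Subgroup.commutator_le]
    intro s hs t ht
    apply hSQ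
    · rw [commutatorElement_def]
      exact mul_mem (mul_mem (mul_mem hs ht) (inv_mem hs)) (inv_mem ht)
    · rw [← hkerK, map_commutatorElement, commutatorElement_eq_one_iff_mul_comm]
      obtain ⟨x, hx⟩ := hmem s hs
      obtain ⟨y, hy⟩ := hmem t ht
      rw [← hx, ← hy, ← map_mul, ← map_mul, ← u_add, ← u_add, add_comm]
  · intro s hs
    apply hSQ _ (pow_mem hs p)
    rw [← hkerK, map_pow]
    obtain ⟨x, hx⟩ := hmem s hs
    have h1 : ∀ m : ℕ, (u x : SpecialLinearGroup (Fin 2) F) ^ m = u (m * x) := by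
      intro m
      induction m with
      | zero => simp [u_zero]
      | succ m ih => rw [pow_succ, ih, ← u_add, Nat.cast_succ]; congr 1; ring
    rw [← hx, ← map_pow, h1, hF0, zero_mul, u_zero, map_one]
  · intro N hN hSN
    rcases dich N hN with h1 | h1
    · rwa [sup_eq_left.mpr hSN] at h1
    · exfalso
      apply hne
      apply le_antisymm _ hQS
      rwa [inf_eq_right.mpr hSN] at h1
  · intro R hQR hRS hR
    rcases irrL R hRS hR with h1 | h1
    · left
      exact le_antisymm (fun r hr => hSQ r (hRS hr) (h1 hr)) hQR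
    · right
      apply le_antisymm hRS
      intro s hs
      obtain ⟨r, hr, k, hk, rfl⟩ := Subgroup.mem_sup_of_normal_right.mp (h1 hs)
      have hk' : k ∈ (S : Subgroup G) := by
        have := mul_mem (inv_mem (hRS hr)) hs
        rwa [inv_mul_cancel_left] at this
      exact mul_mem hr (hQR (hSQ k hk' hk))
  · obtain ⟨g, hg⟩ := hsurj (φ wl)
    refine ⟨g, fun s hs hsQ T hT hsT => ?_⟩
    have h1 : T.map (QuotientGroup.mk' K) = ⊤ := by
      obtain ⟨x, hx⟩ := hmem s hs
      have hx0 : x ≠ 0 := by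
        intro h0
        apply hsQ
        apply hSQ s hs
        rw [← hkerK, ← hx, h0, u_zero, map_one]
      apply gen_of φ hφ hx0
      · intro v hv
        have h2 : φ v ∈ (S : Subgroup G).map (QuotientGroup.mk' K) := by
          rw [← hU]
          exact ⟨v, hv, rfl⟩
        obtain ⟨t, ht, e⟩ := h2
        rw [← e, ← hg, ← map_inv, ← map_mul, ← map_mul]
        exact ⟨_, hT t ht, rfl⟩
      · rw [hx]
        exact ⟨s, hsT, rfl⟩
    by_contra hT1
    -- the conjugate of `T` contains `S`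
    have h2 : (S : Subgroup G) ≤ T.comap (MulAut.conj g).toMonoidHom := fun x hx => hT x hx
    have h3 : T.comap (MulAut.conj g).toMonoidHom ≠ ⊤ := by
      intro h4
      apply hT1
      rw [eq_top_iff]
      intro y _
      have h5 : g⁻¹ * y * g ∈ T.comap (MulAut.conj g).toMonoidHom := by rw [h4]; trivial
      change g * (g⁻¹ * y * g) * g⁻¹ ∈ T at h5
      rwa [show g * (g⁻¹ * y * g) * g⁻¹ = y by group] at h5
    have h4 := huniq _ h2 h3
    apply hM.1
    rw [eq_top_iff]
    intro y _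
    have h5 : QuotientGroup.mk' K (g * y * g⁻¹) ∈ T.map (QuotientGroup.mk' K) := by rw [h1]; trivial
    obtain ⟨t, ht, e⟩ := h5
    have h6 : t⁻¹ * (g * y * g⁻¹) ∈ K := by
      rw [← hkerK, map_mul, map_inv, e, inv_mul_cancel]
    have h7 : g⁻¹ * t * g ∈ M := by
      apply h4
      change g * (g⁻¹ * t * g) * g⁻¹ ∈ T
      rwa [show g * (g⁻¹ * t * g) * g⁻¹ = t by group]
    have h8 : g⁻¹ * (t⁻¹ * (g * y * g⁻¹)) * g⁻¹⁻¹ ∈ M :=
      hKM ((inferInstance : K.Normal).conj_mem _ h6 g⁻¹)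
    have e3 : y = (g⁻¹ * t * g) * (g⁻¹ * (t⁻¹ * (g * y * g⁻¹)) * g⁻¹⁻¹) := by group
    rw [e3]
    exact mul_mem h7 h8

end exist

end Cfsg.Agent.H449.PushUp
end

-- part: H449/PushUpC
section
/-!
# Rank one pushing up: the case `J(S) ≤ Q` and the powers of elements of `V`
-/

set_option autoImplicit false
open Cfsg
open scoped commutatorElement
open Cfsg.Agent.PLocal.ThompsonJA

namespace Cfsg.Agent.H449.PushUp

variable {G : Type*} [Group G] [Finite G] {p : ℕ} {S Q : Subgroup G}

/-- If `J(S) ≤ Q` and `Z(S)` is not normal then `C_S(Z(J(S)))` is normal. -/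
theorem normal_of_thompson_le (h : PU p S Q) (hZ : ¬ (ZZ S).Normal)
    (hJ : thompsonSubgroupAOf S ≤ Q) :
    (S ⊓ Subgroup.centralizer (centerThompsonAOf S : Set G)).Normal := by
  have hQn := h.nQ
  have e1 : centerThompsonAOf Q = centerThompsonAOf S := centerThompsonAOf_eq_of_le hJ h.le
  have hZJn : (centerThompsonAOf S).Normal := by
    rw [← e1, ← Subgroup.normalizer_eq_top_iff, eq_top_iff]
    have := normalizer_le_normalizer_centerThompsonAOf Q
    rwa [Subgroup.normalizer_eq_top_iff.mpr hQn] at this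
  have hVZ : VV S ≤ centerThompsonAOf S :=
    Subgroup.normalClosure_le_normal (inf_centralizer_le_centerThompsonAOf S)
  have e2 : S ⊓ Subgroup.centralizer (centerThompsonAOf S : Set G) =
      Q ⊓ Subgroup.centralizer (centerThompsonAOf S : Set G) := by
    apply le_antisymm
    · refine le_inf ?_ inf_le_right
      rw [← h.inf_cent hZ]
      exact inf_le_inf_left _ (Subgroup.centralizer_le hVZ)
    · exact inf_le_inf_right _ h.le
  rw [e2]
  infer_instance

/-- If `S` acts quadratically on `V` then the `p`-th powers of elements of `V` are central. -/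
theorem pow_mem_center (h : PU p S Q) (hq : ⁅VV S, S⁆ ≤ Subgroup.centralizer (S : Set G)) {v : G}
    (hv : v ∈ VV S) : v ^ p ∈ Subgroup.center G := by
  -- `v ^ p` commutes with `S`, for all `v ∈ V`
  have key : ∀ v ∈ VV S, ∀ s ∈ S, s * v ^ p = v ^ p * s := by
    intro v hv s hs
    have h1 : Subgroup.centralizer ({s} : Set G) = Subgroup.centralizer ({s} : Set G) := rfl
    have hc : ⁅v, s⁆ ∈ VV S := Subgroup.commutator_le_left (VV S) S
      (Subgroup.commutator_mem_commutator hv hs)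
    -- the hom `s ↦ [v, s]`
    have hs' : ∀ m : ℕ, ⁅v, s ^ m⁆ = ⁅v, s⁆ ^ m := by
      intro m
      induction m with
      | zero => rw [pow_zero, pow_zero, commutatorElement_one_right]
      | succ m ih =>
        have e2 : s ^ m * ⁅v, s⁆ = ⁅v, s⁆ * s ^ m :=
          Subgroup.mem_centralizer_iff.mp (hq (Subgroup.commutator_mem_commutator hv hs)) (s ^ m)
            (pow_mem hs m)
        rw [pow_succ s, pow_succ ⁅v, s⁆, ← ih]
        calc ⁅v, s ^ m * s⁆ = v * s ^ m * v⁻¹ * (⁅v, s⁆ * (s ^ m)⁻¹) := by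
              simp only [commutatorElement_def]; group
          _ = v * s ^ m * v⁻¹ * ((s ^ m)⁻¹ * ⁅v, s⁆) := by
              rw [show ⁅v, s⁆ * (s ^ m)⁻¹ = (s ^ m)⁻¹ * ⁅v, s⁆ by
                rw [mul_inv_eq_iff_eq_mul, mul_assoc, ← e2, inv_mul_cancel_left]]
          _ = _ := by simp only [commutatorElement_def]; group
    have hv' : ∀ m : ℕ, ⁅v ^ m, s⁆ = ⁅v, s⁆ ^ m := by
      intro m
      induction m with
      | zero => rw [pow_zero, pow_zero, commutatorElement_one_left]
      | succ m ih =>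
        have e2 : v ^ m * ⁅v, s⁆ = ⁅v, s⁆ * v ^ m := h.VV_comm _ (pow_mem hv m) _ hc
        rw [pow_succ v, pow_succ' ⁅v, s⁆, ← ih]
        calc ⁅v ^ m * v, s⁆ = (v ^ m * ⁅v, s⁆) * s * (v ^ m)⁻¹ * s⁻¹ := by
              simp only [commutatorElement_def]; group
          _ = (⁅v, s⁆ * v ^ m) * s * (v ^ m)⁻¹ * s⁻¹ := by rw [e2]
          _ = _ := by simp only [commutatorElement_def]; group
    have h2 : ⁅v, s ^ p⁆ = 1 := by
      rw [commutatorElement_eq_one_iff_mul_comm]
      exact (Subgroup.mem_centralizer_iff.mp (h.VV_le hv).2 _ (h.pow s hs)).symm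
    have h3 : ⁅v ^ p, s⁆ = 1 := by rw [hv', ← hs', h2]
    rw [commutatorElement_eq_one_iff_mul_comm] at h3
    exact h3.symm
  -- the subgroup of elements commuting with all `p`-th powers is normal and contains `S`
  let T : Subgroup G := Subgroup.centralizer {y : G | ∃ v ∈ VV S, y = v ^ p}
  have hT : T = ⊤ := by
    apply h.big T
    · constructor
      intro x hx g
      change x ∈ Subgroup.centralizer {y : G | ∃ v ∈ VV S, y = v ^ p} at hx
      change g * x * g⁻¹ ∈ Subgroup.centralizer {y : G | ∃ v ∈ VV S, y = v ^ p}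
      rw [Subgroup.mem_centralizer_iff] at hx ⊢
      rintro _ ⟨v, hv, rfl⟩
      have hVn : (VV S).Normal := inferInstance
      have h1 := hx _ ⟨g⁻¹ * v * g⁻¹⁻¹, hVn.conj_mem v hv g⁻¹, rfl⟩
      rw [conj_pow] at h1
      calc v ^ p * (g * x * g⁻¹) = g * ((g⁻¹ * v ^ p * g⁻¹⁻¹) * x) * g⁻¹ := by group
        _ = g * (x * (g⁻¹ * v ^ p * g⁻¹⁻¹)) * g⁻¹ := by rw [h1]
        _ = _ := by group
    · intro s hs
      change s ∈ Subgroup.centralizer {y : G | ∃ v ∈ VV S, y = v ^ p}
      rw [Subgroup.mem_centralizer_iff]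
      rintro _ ⟨v, hv, rfl⟩
      exact (key v hv s hs).symm
  rw [Subgroup.mem_center_iff]
  intro g
  have h1 : g ∈ T := by rw [hT]; trivial
  exact (Subgroup.mem_centralizer_iff.mp h1 _ ⟨v, hv, rfl⟩).symm

end Cfsg.Agent.H449.PushUp
end
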